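import Mathlib

/-! Elementary tools for pushing up a two-group lying in a group with dihedral top. -/

set_option autoImplicit false

namespace Cfsg.Agent.DihPush

open scoped Pointwise

variable {G : Type*} [Group G]

theorem mem_cj {K : Subgroup G} {g a : G} : a ∈ MulAut.conj g • K ↔ g⁻¹ * a * g ∈ K := by
  rw [Subgroup.mem_pointwise_smul_iff_inv_smul_mem]; simp [MulAut.smul_def]

theorem cj_mem {K : Subgroup G} {g a : G} (h : a ∈ K) : g * a * g⁻¹ ∈ MulAut.conj g • K := by
  rw [mem_cj]; simpa [mul_assoc] using h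

theorem cj_cj (K : Subgroup G) (a b : G) :
    MulAut.conj a • (MulAut.conj b • K) = MulAut.conj (a * b) • K := by
  rw [smul_smul, map_mul]

theorem cj_one (K : Subgroup G) : MulAut.conj (1 : G) • K = K := by simp

theorem cj_le {K L : Subgroup G} (g : G) (h : K ≤ L) : MulAut.conj g • K ≤ MulAut.conj g • L :=
  fun a ha => mem_cj.2 (h (mem_cj.1 ha))

theorem cj_inf (K L : Subgroup G) (g : G) :
    MulAut.conj g • (K ⊓ L) = (MulAut.conj g • K) ⊓ (MulAut.conj g • L) := by
  ext a; simp only [mem_cj, Subgroup.mem_inf]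

theorem cj_sup (K L : Subgroup G) (g : G) :
    MulAut.conj g • (K ⊔ L) = (MulAut.conj g • K) ⊔ (MulAut.conj g • L) := Subgroup.smul_sup _ _ _

theorem cj_card (K : Subgroup G) (g : G) : Nat.card ↥(MulAut.conj g • K) = Nat.card K :=
  (Nat.card_congr (Subgroup.equivSMul (MulAut.conj g) K).toEquiv).symm

theorem cj_mem_of {K : Subgroup G} {g a : G} (hg : MulAut.conj g • K = K) (h : a ∈ K) :
    g * a * g⁻¹ ∈ K := by
  have := cj_mem (g := g) h
  rwa [hg] at this

/-- the elements fixing `K` under conjugation -/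
def nz (K : Subgroup G) : Subgroup G where
  carrier := {g | MulAut.conj g • K = K}
  mul_mem' := fun {a b} (ha : MulAut.conj a • K = K) (hb : MulAut.conj b • K = K) => by
    show MulAut.conj (a * b) • K = K
    rw [← cj_cj, hb, ha]
  one_mem' := cj_one K
  inv_mem' := fun {a} (ha : MulAut.conj a • K = K) => by
    show MulAut.conj a⁻¹ • K = K
    calc MulAut.conj a⁻¹ • K = MulAut.conj a⁻¹ • (MulAut.conj a • K) := by rw [ha]
      _ = K := by rw [cj_cj, inv_mul_cancel, cj_one]

theorem self_le_nz (K : Subgroup G) : K ≤ nz K := by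
  intro g hg
  show MulAut.conj g • K = K
  ext a
  rw [mem_cj]
  constructor
  · intro h
    have := K.mul_mem (K.mul_mem hg h) (K.inv_mem hg)
    simpa [mul_assoc] using this
  · intro h
    exact K.mul_mem (K.mul_mem (K.inv_mem hg) h) hg

/-- an element of odd order lies in a subgroup as soon as one of its two-power powers does -/
theorem odd_mem (S : Subgroup G) {g : G} (hg : Odd (orderOf g)) {k : ℕ} (h : g ^ (2 ^ k) ∈ S) :
    g ∈ S := by
  have hc : (2 ^ k).Coprime (orderOf g) := (Nat.coprime_two_left.2 hg).pow_left k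
  obtain ⟨m, hm⟩ := exists_pow_eq_self_of_coprime hc
  rw [← hm]
  exact S.pow_mem h m

theorem odd_sq_mem (S : Subgroup G) {g : G} (hg : Odd (orderOf g)) (h : g * g ∈ S) : g ∈ S :=
  odd_mem S hg (k := 1) (by simpa [pow_two] using h)

/-- every element is an involution or trivial -/
def Ea (S : Subgroup G) : Prop := ∀ a ∈ S, a * a = 1

theorem Ea.mono {S T : Subgroup G} (h : Ea T) (hST : S ≤ T) : Ea S := fun a ha => h a (hST ha)

theorem Ea.inv {S : Subgroup G} (h : Ea S) {a : G} (ha : a ∈ S) : a⁻¹ = a :=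
  inv_eq_of_mul_eq_one_right (h a ha)

theorem Ea.comm {S : Subgroup G} (h : Ea S) {a b : G} (ha : a ∈ S) (hb : b ∈ S) : a * b = b * a := by
  calc a * b = (a * b)⁻¹ := (h.inv (S.mul_mem ha hb)).symm
    _ = b⁻¹ * a⁻¹ := mul_inv_rev a b
    _ = b * a := by rw [h.inv ha, h.inv hb]

theorem Ea.cj {S : Subgroup G} (h : Ea S) (g : G) : Ea (MulAut.conj g • S) := by
  intro a ha
  have e := h _ (mem_cj.1 ha)
  have : a * a = g * (g⁻¹ * a * g * (g⁻¹ * a * g)) * g⁻¹ := by group
  rw [this, e]; group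

theorem mem_sup_comm {S T : Subgroup G} (hc : ∀ s ∈ S, ∀ u ∈ T, s * u = u * s) {g : G}
    (hg : g ∈ S ⊔ T) : ∃ s ∈ S, ∃ u ∈ T, g = s * u := by
  rw [Subgroup.sup_eq_closure] at hg
  induction hg using Subgroup.closure_induction with
  | mem a ha =>
    rcases ha with ha | ha
    · exact ⟨a, ha, 1, T.one_mem, (mul_one a).symm⟩
    · exact ⟨1, S.one_mem, a, ha, (one_mul a).symm⟩
  | one => exact ⟨1, S.one_mem, 1, T.one_mem, (one_mul _).symm⟩
  | mul a b _ _ ha hb =>
    obtain ⟨s, hs, u, hu, rfl⟩ := ha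
    obtain ⟨s', hs', u', hu', rfl⟩ := hb
    exact ⟨s * s', S.mul_mem hs hs', u * u', T.mul_mem hu hu', by
      rw [mul_assoc, ← mul_assoc u, ← hc s' hs' u hu]; simp [mul_assoc]⟩
  | inv a _ ha =>
    obtain ⟨s, hs, u, hu, rfl⟩ := ha
    exact ⟨s⁻¹, S.inv_mem hs, u⁻¹, T.inv_mem hu, by
      rw [mul_inv_rev, hc s⁻¹ (S.inv_mem hs) u⁻¹ (T.inv_mem hu)]⟩

theorem Ea.sup {S T : Subgroup G} (hS : Ea S) (hT : Ea T) (hc : ∀ s ∈ S, ∀ u ∈ T, s * u = u * s) :
    Ea (S ⊔ T) := by
  intro g hg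
  obtain ⟨s, hs, u, hu, rfl⟩ := mem_sup_comm hc hg
  calc s * u * (s * u) = s * (u * s) * u := by group
    _ = s * (s * u) * u := by rw [hc s hs u hu]
    _ = (s * s) * (u * u) := by group
    _ = 1 := by rw [hS s hs, hT u hu, one_mul]

theorem card_sup_comm [Finite G] (S T : Subgroup G) (hc : ∀ s ∈ S, ∀ u ∈ T, s * u = u * s) :
    Nat.card ↥(S ⊔ T) * Nat.card ↥(S ⊓ T) = Nat.card S * Nat.card T := by
  let φ : S × T →* G := S.subtype.noncommCoprod T.subtype (fun a b => hc a a.2 b b.2)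
  have hr : φ.range = S ⊔ T := by
    refine (MonoidHom.noncommCoprod_range _ _ _).trans ?_
    rw [Subgroup.range_subtype, Subgroup.range_subtype]
  have e : φ.ker ≃ ↥(S ⊓ T) :=
    { toFun := fun p => ⟨(p.1.1 : G), p.1.1.2, by
        have h : (p.1.1 : G) * (p.1.2 : G) = 1 := p.2
        rw [mul_eq_one_iff_eq_inv.1 h]; exact T.inv_mem p.1.2.2⟩
      invFun := fun a => ⟨(⟨a, a.2.1⟩, ⟨(a : G)⁻¹, T.inv_mem a.2.2⟩), mul_inv_cancel _⟩
      left_inv := fun p => by
        have h : (p.1.1 : G) * (p.1.2 : G) = 1 := p.2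
        refine Subtype.ext (Prod.ext rfl (Subtype.ext ?_))
        exact inv_eq_of_mul_eq_one_right h
      right_inv := fun a => rfl }
  have h := φ.ker.card_eq_card_quotient_mul_card_subgroup
  rw [Nat.card_congr (QuotientGroup.quotientKerEquivRange φ).toEquiv, hr, Nat.card_congr e,
    Nat.card_prod] at h
  exact h.symm

/-- the two cosets of a subgroup of index two -/
theorem two_split [Finite G] {K L : Subgroup G} (hKL : K ≤ L) (h : Nat.card L = 2 * Nat.card K)
    {a b : G} (ha : a ∈ L) (hb : b ∈ L) : a * b ∈ K ↔ (a ∈ K ↔ b ∈ K) := by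
  have hi : (K.subgroupOf L).index = 2 := by
    have h1 := (K.subgroupOf L).card_mul_index
    rw [Nat.card_congr (Subgroup.subgroupOfEquivOfLe hKL).toEquiv, h] at h1
    have hp : 0 < Nat.card K := Nat.card_pos
    exact Nat.eq_of_mul_eq_mul_left hp (h1.trans (mul_comm _ _))
  have := Subgroup.mul_mem_iff_of_index_two hi (a := ⟨a, ha⟩) (b := ⟨b, hb⟩)
  simpa [Subgroup.mem_subgroupOf] using this

/-- a subgroup covering another by two cosets -/
theorem card_le_two [Finite G] {K L : Subgroup G} (s : G) (h : ∀ a ∈ L, a ∈ K ∨ s⁻¹ * a ∈ K) :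
    Nat.card L ≤ 2 * Nat.card K := by
  classical
  let f : L → Bool × K := fun a =>
    if ha : (a : G) ∈ K then (true, ⟨a, ha⟩) else (false, ⟨s⁻¹ * a, (h a a.2).resolve_left ha⟩)
  have hf : Function.Injective f := by
    intro a b hab
    simp only [f] at hab
    split_ifs at hab with ha hb hb
    · exact Subtype.ext (Subtype.mk.inj (Prod.mk.inj hab).2)
    · exact Bool.noConfusion (Prod.mk.inj hab).1
    · exact Bool.noConfusion (Prod.mk.inj hab).1
    · exact Subtype.ext (mul_left_cancel (Subtype.mk.inj (Prod.mk.inj hab).2))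
  have := Nat.card_le_card_of_injective f hf
  rwa [Nat.card_prod, show Nat.card Bool = 2 by simp] at this

theorem mem_zpowers_invol {f g : G} (hf : f * f = 1) (hg : g ∈ Subgroup.zpowers f) :
    g = 1 ∨ g = f := by
  obtain ⟨k, rfl⟩ := Subgroup.mem_zpowers_iff.1 hg
  have h2 : f ^ (2 : ℤ) = 1 := by rw [show (2 : ℤ) = 1 + 1 from rfl, zpow_add, zpow_one, hf]
  rcases Int.even_or_odd k with ⟨j, rfl⟩ | ⟨j, rfl⟩
  · left; rw [← two_mul, zpow_mul, h2, one_zpow]
  · right; rw [zpow_add, zpow_mul, h2, one_zpow, one_mul, zpow_one]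

theorem ea_zpowers {f : G} (hf : f * f = 1) : Ea (Subgroup.zpowers f) := by
  intro g hg
  rcases mem_zpowers_invol hf hg with rfl | rfl
  · exact one_mul 1
  · exact hf

end Cfsg.Agent.DihPush
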