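import Cfsg.Agent.Lib.DihedralPush.Omega

/-! The twist of `W` does not lie in `Q`. -/

set_option autoImplicit false

namespace Cfsg.Agent.DihPush

open scoped Pointwise

variable {G : Type*} [Group G] [Finite G] (S : Setup G)

omit [Finite G] in
theorem zp_invol {c g : G} (hc : c * c = 1) (h : g ∈ Subgroup.zpowers c) : g = 1 ∨ g = c :=
  mem_zpowers_invol hc h

omit [Finite G] in
theorem to_zp {c g : G} (h : g = 1 ∨ g = c) : g ∈ Subgroup.zpowers c := by
  rcases h with rfl | rfl
  · exact Subgroup.one_mem _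
  · exact Subgroup.mem_zpowers g

omit [Finite G] in
theorem zp_inter {c v g : G} (hc : c * c = 1) (hv : v * v = 1) (hne : c ≠ v)
    (h1 : g ∈ Subgroup.zpowers c) (h2 : g ∈ Subgroup.zpowers v) : g = 1 := by
  rcases zp_invol hc h1 with h | h
  · exact h
  · rcases zp_invol hv h2 with h' | h'
    · exact h'
    · exact absurd (h.symm.trans h') hne

/-- duality for a pairing with values in a group of order two -/
theorem pairing (X Y : Subgroup G) (c : G) (hc : c * c = 1) (hcX : ∀ a ∈ X, a * c = c * a)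
    (hp : ∀ g ∈ Y, ∀ a ∈ X, g * a * g⁻¹ * a⁻¹ ∈ Subgroup.zpowers c) :
    Nat.card X * Nat.card ↥(Y ⊓ Subgroup.centralizer (X : Set G)) ≤
      Nat.card ↥(X ⊓ Subgroup.centralizer (Y : Set G)) * Nat.card Y := by
  classical
  set L := Y ⊓ Subgroup.centralizer (X : Set G) with hL
  have key : ∀ s : Finset G, (∀ g ∈ s, g ∈ Y) → Nat.card X * Nat.card L ≤
      Nat.card ↥(X ⊓ Subgroup.centralizer (s : Set G)) * Nat.card ↥(Subgroup.closure (s : Set G) ⊔ L) := by
    intro s
    induction s using Finset.induction_on with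
    | empty =>
      intro _
      refine Nat.mul_le_mul (Subgroup.card_le_of_le (le_inf le_rfl ?_)) (Subgroup.card_le_of_le le_sup_right)
      intro a _; simp [Subgroup.mem_centralizer_iff]
    | @insert g s hgs ih =>
      intro hY
      have ih := ih (fun b hb => hY b (Finset.mem_insert_of_mem hb))
      set R := Subgroup.closure (s : Set G) ⊔ L
      have hmono : R ≤ Subgroup.closure ((insert g s : Finset G) : Set G) ⊔ L :=
        sup_le_sup_right (Subgroup.closure_mono (by simp)) L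
      by_cases hgR : g ∈ R
      · refine ih.trans (Nat.mul_le_mul (Subgroup.card_le_of_le ?_) (Subgroup.card_le_of_le hmono))
        rintro a ⟨ha, has⟩
        refine ⟨ha, Subgroup.mem_centralizer_iff.2 ?_⟩
        have hR : R ≤ Subgroup.centralizer ({a} : Set G) := by
          refine sup_le ((Subgroup.closure_le _).2 fun b hb => ?_) fun b hb => ?_
          · exact Subgroup.mem_centralizer_singleton_iff.2 (Subgroup.mem_centralizer_iff.1 has b hb)
          · exact Subgroup.mem_centralizer_singleton_iff.2 (Subgroup.mem_centralizer_iff.1 hb.2 a ha).symm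
        intro b hb
        rcases Finset.mem_insert.1 hb with rfl | hb
        · exact Subgroup.mem_centralizer_singleton_iff.1 (hR hgR)
        · exact Subgroup.mem_centralizer_iff.1 has b hb
      · set X0 := X ⊓ Subgroup.centralizer (s : Set G) with hX0
        set X1 := X ⊓ Subgroup.centralizer ((insert g s : Finset G) : Set G) with hX1
        have hgY := hY g (Finset.mem_insert_self g s)
        have hx2 : Nat.card X0 ≤ 2 * Nat.card X1 := by
          by_cases hall : ∀ a ∈ X0, g * a = a * g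
          · have h01 : X0 ≤ X1 := fun a ha => ⟨ha.1, Subgroup.mem_centralizer_iff.2 fun b hb => by
              rcases Finset.mem_insert.1 hb with rfl | hb
              · exact hall a ha
              · exact Subgroup.mem_centralizer_iff.1 ha.2 b hb⟩
            have := Subgroup.card_le_of_le h01
            omega
          push Not at hall
          obtain ⟨a, ha, hga⟩ := hall
          refine card_le_two a fun b hb => ?_
          have into : ∀ b ∈ X0, g * b = b * g → b ∈ X1 := fun b hb h =>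
            ⟨hb.1, Subgroup.mem_centralizer_iff.2 fun d hd => by
            rcases Finset.mem_insert.1 hd with rfl | hd
            · exact h
            · exact Subgroup.mem_centralizer_iff.1 hb.2 d hd⟩
          by_cases hgb : g * b = b * g
          · exact Or.inl (into b hb hgb)
          · refine Or.inr (into _ (X0.mul_mem (X0.inv_mem ha) hb) ?_)
            have h1 := (zp_invol hc (hp g hgY a ha.1)).resolve_left (fun h => hga (comm_eq_iff.1 h))
            have h2 := (zp_invol hc (hp g hgY b hb.1)).resolve_left (fun h => hgb (comm_eq_iff.1 h))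
            have e1 : g * a * g⁻¹ = c * a := by rw [← h1]; group
            have e2 : g * b * g⁻¹ = c * b := by rw [← h2]; group
            calc g * (a⁻¹ * b) = (g * a * g⁻¹)⁻¹ * (g * b * g⁻¹) * g := by group
              _ = a⁻¹ * b * g := by rw [e1, e2]; group
        have hr2 : 2 * Nat.card R ≤ Nat.card ↥(Subgroup.closure ((insert g s : Finset G) : Set G) ⊔ L) := by
          obtain ⟨k, hk⟩ : ∃ k, Nat.card ↥(Subgroup.closure ((insert g s : Finset G) : Set G) ⊔ L) =
              Nat.card R * k := Subgroup.card_dvd_of_le hmono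
          have hne : ¬ Nat.card ↥(Subgroup.closure ((insert g s : Finset G) : Set G) ⊔ L) ≤ Nat.card R :=
            fun h => hgR ((Subgroup.eq_of_le_of_card_ge hmono h).ge
              (Subgroup.mem_sup_left (Subgroup.subset_closure (by simp))))
          rw [hk] at hne ⊢
          have : 2 ≤ k := by
            rcases k with _ | _ | k
            · rw [mul_zero] at hne; omega
            · rw [zero_add, mul_one] at hne; omega
            · omega
          rw [mul_comm]; exact Nat.mul_le_mul_left _ this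
        calc Nat.card X * Nat.card L ≤ Nat.card X0 * Nat.card R := ih
          _ ≤ 2 * Nat.card X1 * Nat.card R := Nat.mul_le_mul_right _ hx2
          _ = Nat.card X1 * (2 * Nat.card R) := by ring
          _ ≤ _ := Nat.mul_le_mul_left _ hr2
  haveI := Fintype.ofFinite G
  refine (key (Y : Set G).toFinset (fun g hg => by simpa using hg)).trans ?_
  rw [Set.coe_toFinset, Subgroup.closure_eq, sup_eq_left.2 (inf_le_left : L ≤ Y)]

/-- the twist of `W` -/
def Setup.W' : Subgroup G := MulAut.conj S.y • S.W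

omit [Finite G] in
theorem Setup.pW' : ∀ p ∈ S.P, MulAut.conj p • S.W' = S.W' := fun _ hp => S.pcj hp S.pW

omit [Finite G] in
theorem Setup.W'Q' : S.W' ≤ S.Q' := cj_le _ S.WQ

omit [Finite G] in
theorem Setup.W'_comm {w q : G} (hw : w ∈ S.W') (hq : q ∈ S.Q') : w * q = q * w := by
  have h := S.W_comm (mem_cj.1 hw) (mem_cj.1 hq)
  calc w * q = S.y * ((S.y⁻¹ * w * S.y) * (S.y⁻¹ * q * S.y)) * S.y⁻¹ := by group
    _ = q * w := by rw [h]; group

omit [Finite G] in
theorem Setup.W'_ea : Ea S.W' := S.W_ea.cj _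

/-- the centraliser in `Q` of a twisted element of `W` that moves `Q` -/
theorem Setup.cq {w q₀ : G} (hw : w ∈ S.W') (hq₀ : q₀ ∈ S.Q) (hne : w * q₀ ≠ q₀ * w) {q : G}
    (hq : q ∈ S.Q) : w * q = q * w ↔ q ∈ S.D := by
  refine ⟨fun h => ?_, fun h => S.W'_comm hw h.2⟩
  by_contra hqD
  have h0 : q₀ ∉ S.D := fun h0 => hne (S.W'_comm hw h0.2)
  have hd : q⁻¹ * q₀ ∈ S.D :=
    (two_split S.DQ S.cardD (S.Q.inv_mem hq) hq₀).2 (by simp [hqD, h0])
  have h2 := S.W'_comm hw hd.2
  apply hne
  calc w * q₀ = (w * q) * (q⁻¹ * q₀) := by group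
    _ = q * (w * (q⁻¹ * q₀)) := by rw [h]; group
    _ = q₀ * w := by rw [h2]; group

set_option maxHeartbeats 1600000 in
theorem Setup.not_in (hx : S.Moves) : ¬ S.W' ≤ S.Q := by
  intro hW'Q
  obtain ⟨v, hvZ, hvne, hval⟩ := S.transvection hx
  obtain ⟨A, t, hA, ht, htQ⟩ := S.exists_big
  have htP := hA.2.1 ht
  set c := S.y * v * S.y⁻¹ with hc
  have hcZ : c ∈ S.Z := cj_mem_of S.yZ hvZ
  have hvv : v * v = 1 := hvZ.2.1
  have hcc : c * c = 1 := hcZ.2.1
  have hyc : S.y * c * S.y⁻¹ = v := by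
    calc S.y * c * S.y⁻¹ = S.y * S.y * v * (S.y * S.y)⁻¹ := by rw [hc]; group
      _ = v := S.y2fix v hvZ.1 hvZ.2.2
  have hcne : c ≠ 1 := fun h => hvne (by rw [← hyc, h]; group)
  have hWP : S.W ≤ S.P := S.WQ.trans S.QP
  have hW'val : ∀ w ∈ S.W', ∀ p ∈ S.P, w * p * w⁻¹ * p⁻¹ ∈ Subgroup.zpowers c := by
    intro w hw p hp
    have hp' : S.y⁻¹ * p * S.y ∈ S.P := mem_cj.1 (S.yP.symm ▸ hp)
    have e : w * p * w⁻¹ * p⁻¹ = S.y * ((S.y⁻¹ * w * S.y) * (S.y⁻¹ * p * S.y) * (S.y⁻¹ * w * S.y)⁻¹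
        * (S.y⁻¹ * p * S.y)⁻¹) * S.y⁻¹ := by group
    rcases hval _ (mem_cj.1 hw) _ hp' with h | h
    · rw [e, h]; exact to_zp (Or.inl (by group))
    · rw [e, h]; exact to_zp (Or.inr hc.symm)
  have hhalf : Nat.card A ≤ 2 * Nat.card ↥(A ⊓ S.Q) := by
    refine card_le_two t fun a ha => ?_
    by_cases haQ : a ∈ S.Q
    · exact Or.inl ⟨ha, haQ⟩
    · exact Or.inr ⟨A.mul_mem (A.inv_mem ht) ha,
        (two_split S.QP S.card2 (S.P.inv_mem htP) (hA.2.1 ha)).2 (by simp [htQ, haQ])⟩
  obtain ⟨w₀, hw₀, hw₀t⟩ := S.W_moved hx htP htQ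
  -- strictness at `t`
  have hstrict : ∀ E : Subgroup G, S.W ≤ E → (∀ e ∈ E, e ∈ S.Q) →
      2 * Nat.card ↥(E ⊓ Subgroup.centralizer (A : Set G)) ≤
        Nat.card ↥(E ⊓ Subgroup.centralizer ((A ⊓ S.Q : Subgroup G) : Set G)) := by
    intro E hWE hEQ
    set B := E ⊓ Subgroup.centralizer (A : Set G)
    set L := E ⊓ Subgroup.centralizer ((A ⊓ S.Q : Subgroup G) : Set G)
    have hle : B ≤ L := fun g hg => ⟨hg.1,
      Subgroup.mem_centralizer_iff.2 fun a ha => Subgroup.mem_centralizer_iff.1 hg.2 a ha.1⟩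
    have hwL : w₀ ∈ L := ⟨hWE hw₀,
      Subgroup.mem_centralizer_iff.2 fun a ha => (S.W_comm hw₀ ha.2).symm⟩
    have hne : ¬ Nat.card L ≤ Nat.card B := fun h =>
      hw₀t (Subgroup.mem_centralizer_iff.1 ((Subgroup.eq_of_le_of_card_ge hle h).ge hwL).2 t ht)
    obtain ⟨k, hk⟩ : ∃ k, Nat.card L = Nat.card B * k := Subgroup.card_dvd_of_le hle
    rw [hk] at hne ⊢
    have : 2 ≤ k := by
      rcases k with _ | _ | k
      · rw [mul_zero] at hne; omega
      · rw [zero_add, mul_one] at hne; omega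
      · omega
    rw [mul_comm]; exact Nat.mul_le_mul_left _ this
  by_cases hcx : S.x * c * S.x⁻¹ ≠ S.x⁻¹ * c * S.x
  · -- `W` itself offends
    have hQC : S.Q ≤ Subgroup.centralizer (S.W : Set G) := fun q hq => by
      rw [Subgroup.mem_centralizer_iff]; exact fun w hw => S.W_comm hw hq
    have hK : S.Q ⊓ Subgroup.centralizer (S.W : Set G) = S.Q := inf_eq_left.2 hQC
    have hfix := S.level (E := S.W) (F := S.W') (c := c) hA ht htQ S.WQ S.W_ea S.HW S.W'_ea S.pW'
      (by rw [hK]; exact hW'Q) hcc hcZ.2.2 hcx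
      (fun f hf k hk => zp_invol hcc (hW'val f hf k (S.QP hk.1)))
      (by
        rw [hK]
        have h1 := (hstrict S.W le_rfl S.WQ).trans (Subgroup.card_le_of_le inf_le_left)
        calc Nat.card A * Nat.card ↥(S.W ⊓ Subgroup.centralizer (A : Set G))
            ≤ 2 * Nat.card ↥(A ⊓ S.Q) * Nat.card ↥(S.W ⊓ Subgroup.centralizer (A : Set G)) :=
              Nat.mul_le_mul_right _ hhalf
          _ = Nat.card ↥(A ⊓ S.Q) * (2 * Nat.card ↥(S.W ⊓ Subgroup.centralizer (A : Set G))) := by ring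
          _ ≤ Nat.card ↥(A ⊓ S.Q) * Nat.card S.W := Nat.mul_le_mul_left _ h1
          _ = _ := mul_comm _ _)
    have hy : MulAut.conj S.y • (S.W ⊔ S.W') = S.W ⊔ S.W' := by
      rw [cj_sup, Setup.W', cj_cj, S.y2 S.W hWP S.pW, sup_comm]
    have hp : ∀ p ∈ S.P, MulAut.conj p • (S.W ⊔ S.W') = S.W ⊔ S.W' := fun p hp => by
      rw [cj_sup, S.pW p hp, S.pW' p hp]
    have hb := S.norm (sup_le hWP (S.W'Q'.trans S.Q'P)) hp hfix hy
    have := le_bot_iff.1 ((le_sup_left : S.W ≤ _).trans hb.le)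
    exact S.Z_ne (le_bot_iff.1 ((S.ZW hx).trans this.le))
  · -- `c` is central in `H`
    push Not at hcx
    have hxc : S.x * c = c * S.x := by
      have h2 : S.x * S.x ∈ Subgroup.centralizer ({c} : Set G) := by
        rw [Subgroup.mem_centralizer_singleton_iff]
        calc S.x * S.x * c = S.x * (S.x * c * S.x⁻¹) * S.x := by group
          _ = c * (S.x * S.x) := by rw [hcx]; group
      exact Subgroup.mem_centralizer_singleton_iff.1 (odd_sq_mem _ S.xodd h2)
    have hcH : ∀ h ∈ S.H, h * c = c * h := by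
      intro h hh
      obtain ⟨i, p, hp, rfl⟩ := S.dec h hh
      have h1 : S.x ^ i * c = c * S.x ^ i := (show Commute S.x c from hxc).pow_left i
      rw [mul_assoc, hcZ.2.2 p hp, ← mul_assoc, h1, mul_assoc]
    have hvc : c ≠ v := by
      intro h
      have hfix : ∀ g : G, g * v * g⁻¹ = v → MulAut.conj g • Subgroup.zpowers v = Subgroup.zpowers v := by
        intro g hg
        refine Subgroup.eq_of_le_of_card_ge ?_ (by rw [cj_card])
        intro a ha
        rw [mem_cj] at ha
        have ea : a = g * (g⁻¹ * a * g) * g⁻¹ := by group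
        rcases zp_invol hvv ha with e | e
        · rw [ea, e]; exact to_zp (Or.inl (by group))
        · rw [ea, e, hg]; exact Subgroup.mem_zpowers v
      have hb := S.norm (Subgroup.zpowers_le.2 hvZ.1) (fun p hp => hfix p (by rw [hvZ.2.2 p hp]; group))
        (hfix S.x (by rw [← h, hxc]; group)) (hfix S.y (by rw [← hc, h]))
      exact hvne (by simpa [Subgroup.zpowers_eq_bot] using hb)
    -- the closure of the twisted `W`
    set gens : Set G := (S.W : Set G) ∪ {g | ∃ h ∈ S.H, g ∈ MulAut.conj h • S.W'} with hgens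
    set N := Subgroup.closure gens with hN
    have hgenH : ∀ h ∈ S.H, ∀ g ∈ gens, h * g * h⁻¹ ∈ gens := by
      intro h hh g hg
      rcases hg with hg | ⟨k, hk, hg⟩
      · exact Or.inl (cj_mem_of (S.HW h hh) hg)
      · refine Or.inr ⟨h * k, S.H.mul_mem hh hk, ?_⟩
        rw [← cj_cj]; exact cj_mem hg
    have hNn : ∀ h ∈ S.H, MulAut.conj h • N = N := by
      intro h hh
      have hle : N ≤ MulAut.conj h • N := by
        refine (Subgroup.closure_le _).2 fun g hg => ?_
        show g ∈ MulAut.conj h • N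
        rw [mem_cj]
        exact Subgroup.subset_closure (by simpa using hgenH _ (S.H.inv_mem hh) g hg)
      exact (Subgroup.eq_of_le_of_card_ge hle (by rw [cj_card])).symm
    have hgenQ : ∀ g ∈ gens, g ∈ S.Q := by
      intro g hg
      rcases hg with hg | ⟨k, hk, hg⟩
      · exact S.WQ hg
      · exact (S.QH k hk) ▸ cj_le k hW'Q hg
    have hgen2 : ∀ g ∈ gens, g * g = 1 := by
      intro g hg
      rcases hg with hg | ⟨k, _, hg⟩
      · exact S.W_ea g hg
      · exact (S.W'_ea.cj k) g hg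
    have hNQ : N ≤ S.Q := (Subgroup.closure_le _).2 hgenQ
    have hgenv : ∀ g ∈ gens, ∀ q ∈ S.Q, g * q * g⁻¹ * q⁻¹ ∈ Subgroup.zpowers c := by
      intro g hg q hq
      rcases hg with hg | ⟨k, hk, hg⟩
      · exact to_zp (Or.inl (comm_eq_iff.2 (S.W_comm hg hq)))
      · have hq' : k⁻¹ * q * k ∈ S.Q := mem_cj.1 ((S.QH k hk).symm ▸ hq)
        have e : g * q * g⁻¹ * q⁻¹ = k * ((k⁻¹ * g * k) * (k⁻¹ * q * k) * (k⁻¹ * g * k)⁻¹
            * (k⁻¹ * q * k)⁻¹) * k⁻¹ := by group
        rcases zp_invol hcc (hW'val _ (mem_cj.1 hg) _ (S.QP hq')) with h | h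
        · rw [e, h]; exact to_zp (Or.inl (by group))
        · rw [e, h]; exact to_zp (Or.inr (by rw [hcH k hk]; group))
    have hcg : ∀ q ∈ S.Q, ∀ d ∈ Subgroup.zpowers c, q * d * q⁻¹ = d := by
      intro q hq d hd
      rcases zp_invol hcc hd with rfl | rfl
      · group
      · rw [hcH q (S.PH (S.QP hq))]; group
    have hNv : ∀ g ∈ N, (∀ q ∈ S.Q, g * q * g⁻¹ * q⁻¹ ∈ Subgroup.zpowers c) ∧
        g * g ∈ Subgroup.zpowers c := by
      intro g hg
      induction hg using Subgroup.closure_induction with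
      | mem g hg => exact ⟨hgenv g hg, by rw [hgen2 g hg]; exact Subgroup.one_mem _⟩
      | one => exact ⟨fun q _ => by simp, by simp⟩
      | mul a b haN hbN ha hb =>
        refine ⟨fun q hq => ?_, ?_⟩
        · have e : a * b * q * (a * b)⁻¹ * q⁻¹ = (a * (b * q * b⁻¹ * q⁻¹) * a⁻¹) * (a * q * a⁻¹ * q⁻¹) := by
            group
          rw [e, hcg a (hNQ haN) _ (hb.1 q hq)]
          exact Subgroup.mul_mem _ (hb.1 q hq) (ha.1 q hq)
        · have h1 := hb.1 a⁻¹ (S.Q.inv_mem (hNQ haN))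
          have e : a * b * (a * b) = (a * (b * a * b⁻¹ * a⁻¹) * a⁻¹) * (a * a) * (b * b) := by group
          rw [e, hcg a (hNQ haN) _ (hb.1 a (hNQ haN))]
          exact Subgroup.mul_mem _ (Subgroup.mul_mem _ (hb.1 a (hNQ haN)) ha.2) hb.2
      | inv a haN ha =>
        refine ⟨fun q hq => ?_, ?_⟩
        · have e : a⁻¹ * q * (a⁻¹)⁻¹ * q⁻¹ = a⁻¹ * (a * q * a⁻¹ * q⁻¹)⁻¹ * a := by group
          have h2 := hcg a⁻¹ (S.Q.inv_mem (hNQ haN)) _ (Subgroup.inv_mem _ (ha.1 q hq))
          rw [inv_inv] at h2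
          rw [e, h2]
          exact Subgroup.inv_mem _ (ha.1 q hq)
        · rw [← mul_inv_rev]; exact Subgroup.inv_mem _ ha.2
    set F := MulAut.conj S.y • N with hF
    have hFP : ∀ p ∈ S.P, MulAut.conj p • F = F := fun p hp =>
      S.pcj hp (fun p hp => hNn p (S.PH hp))
    have hFv : ∀ f ∈ F, (∀ q ∈ S.Q', f * q * f⁻¹ * q⁻¹ ∈ Subgroup.zpowers v) ∧
        f * f ∈ Subgroup.zpowers v := by
      intro f hf
      have hyz : ∀ d ∈ Subgroup.zpowers c, S.y * d * S.y⁻¹ ∈ Subgroup.zpowers v := by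
        intro d hd
        rcases zp_invol hcc hd with rfl | rfl
        · exact to_zp (Or.inl (by group))
        · exact to_zp (Or.inr hyc)
      obtain ⟨h1, h2⟩ := hNv _ (mem_cj.1 hf)
      refine ⟨fun q hq => ?_, ?_⟩
      · have := hyz _ (h1 _ (mem_cj.1 hq))
        have e : f * q * f⁻¹ * q⁻¹ = S.y * (S.y⁻¹ * f * S.y * (S.y⁻¹ * q * S.y) * (S.y⁻¹ * f * S.y)⁻¹
            * (S.y⁻¹ * q * S.y)⁻¹) * S.y⁻¹ := by group
        rwa [e]
      · have := hyz _ h2
        have e : f * f = S.y * (S.y⁻¹ * f * S.y * (S.y⁻¹ * f * S.y)) * S.y⁻¹ := by group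
        rwa [e]
    have hW'N : S.W' ≤ N := fun g hg =>
      Subgroup.subset_closure (Or.inr ⟨1, S.H.one_mem, by rwa [cj_one]⟩)
    -- conjugates of `W'` commute
    have hcomm : ∀ i : ℕ, ∀ w ∈ S.W', ∀ u ∈ MulAut.conj (S.x ^ i) • S.W', w * u = u * w := by
      intro i w hw u hu
      have hgu : u ∈ gens := Or.inr ⟨S.x ^ i, S.H.pow_mem S.xH i, hu⟩
      have huQ := hgenQ u hgu
      by_cases huQ' : u ∈ S.Q'
      · exact S.W'_comm hw huQ'
      by_contra hne
      have hu2 := hgen2 u hgu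
      set t₀ := S.y * u * S.y⁻¹ with ht₀
      have ht₀Q' : t₀ ∈ S.Q' := cj_mem huQ
      have ht₀P : t₀ ∈ S.P := S.Q'P ht₀Q'
      have ht₀Q : t₀ ∉ S.Q := by
        intro h
        apply huQ'
        rw [← S.yQ', ht₀, mem_cj] at h
        simpa [mul_assoc] using h
      set u' := t₀ * u * t₀⁻¹ with hu'
      have huN : u ∈ N := Subgroup.subset_closure hgu
      have hu'N : u' ∈ N := cj_mem_of (hNn _ (S.PH ht₀P)) huN
      have ht₀F : t₀ ∈ F := cj_mem huN
      set m := u * u' with hm
      have hmN : m ∈ N := N.mul_mem huN hu'N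
      have hmF : m ∈ F := by
        have e : m = (u * t₀ * u⁻¹) * t₀⁻¹ := by
          rw [hm, hu', inv_eq_of_mul_eq_one_right hu2]; group
        rw [e]
        exact F.mul_mem (cj_mem_of (hFP u (S.QP huQ)) ht₀F) (F.inv_mem ht₀F)
      have hm2 : m * m = 1 := zp_inter hcc hvv hvc (hNv m hmN).2 (hFv m hmF).2
      have hu'2 : u' * u' = 1 := by
        rw [hu', show t₀ * u * t₀⁻¹ * (t₀ * u * t₀⁻¹) = t₀ * (u * u) * t₀⁻¹ by group, hu2]; group
      have huu : u * u' = u' * u := by
        calc u * u' = (u * u')⁻¹ := (inv_eq_of_mul_eq_one_right hm2).symm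
          _ = u' * u := by
            rw [mul_inv_rev, inv_eq_of_mul_eq_one_right hu2, inv_eq_of_mul_eq_one_right hu'2]
      have hmD : ∀ d ∈ S.D, m * d = d * m := fun d hd =>
        comm_eq_iff.1 (zp_inter hcc hvv hvc ((hNv m hmN).1 d hd.1) ((hFv m hmF).1 d hd.2))
      have hmu : m * u = u * m := by rw [hm, mul_assoc, ← huu]
      have hmQ : ∀ q ∈ S.Q, m * q = q * m := by
        intro q hq
        by_cases hqD : q ∈ S.D
        · exact hmD q hqD
        · have hd : u⁻¹ * q ∈ S.D := (two_split S.DQ S.cardD (S.Q.inv_mem huQ) hq).2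
            (by simp only [Subgroup.inv_mem_iff]; exact iff_of_false (fun h => huQ' h.2) hqD)
          calc m * q = (m * u) * (u⁻¹ * q) := by group
            _ = u * (m * (u⁻¹ * q)) := by rw [hmu]; group
            _ = q * m := by rw [hmD _ hd]; group
      have hu'eq : u' = u * m := by
        rw [hm, ← mul_assoc, hu2, one_mul]
      set i' := S.x ^ i
      set w₁ := i'⁻¹ * u * i' with hw₁
      have hw₁W : w₁ ∈ S.W' := mem_cj.1 hu
      have hiH : i' ∈ S.H := S.H.pow_mem S.xH i
      have hw₁ne : w₁ * (i'⁻¹ * w * i') ≠ (i'⁻¹ * w * i') * w₁ := by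
        intro h
        apply hne
        calc w * u = i' * ((i'⁻¹ * w * i') * w₁) * i'⁻¹ := by rw [hw₁]; group
          _ = u * w := by rw [← h, hw₁]; group
      have hwQ' : i'⁻¹ * w * i' ∈ S.Q := mem_cj.1 ((S.QH i' hiH).symm ▸ hW'Q hw)
      have hCu : ∀ q ∈ S.Q, (u * q = q * u ↔ q ∈ MulAut.conj i' • S.D) := by
        intro q hq
        have hq' : i'⁻¹ * q * i' ∈ S.Q := mem_cj.1 ((S.QH i' hiH).symm ▸ hq)
        rw [mem_cj, ← S.cq hw₁W hwQ' hw₁ne hq', hw₁]
        constructor
        · intro h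
          calc i'⁻¹ * u * i' * (i'⁻¹ * q * i') = i'⁻¹ * (u * q) * i' := by group
            _ = _ := by rw [h]; group
        · intro h
          calc u * q = i' * (i'⁻¹ * u * i' * (i'⁻¹ * q * i')) * i'⁻¹ := by group
            _ = _ := by rw [h]; group
      have hCu' : ∀ q ∈ S.Q, (u' * q = q * u' ↔ u * q = q * u) := by
        intro q hq
        rw [hu'eq]
        constructor
        · intro h
          refine mul_right_cancel (b := m) ?_
          calc u * q * m = u * m * q := by rw [mul_assoc, ← hmQ q hq, ← mul_assoc]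
            _ = q * u * m := by rw [h, mul_assoc]
        · intro h
          rw [mul_assoc, hmQ q hq, ← mul_assoc, h, mul_assoc]
      have hdD : MulAut.conj i' • S.D = MulAut.conj i'⁻¹ • S.D := by
        have hsw : MulAut.conj t₀ • (MulAut.conj i' • S.D) = MulAut.conj i'⁻¹ • S.D :=
          S.swap_pow ht₀P ht₀Q S.pD i
        refine Subgroup.eq_of_le_of_card_ge (fun q hq => ?_) (by rw [cj_card, cj_card])
        have hqQ : q ∈ S.Q := (S.QH i' hiH) ▸ cj_le i' S.DQ hq
        rw [← hsw, mem_cj]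
        have hq' : t₀⁻¹ * q * t₀ ∈ S.Q := mem_cj.1 ((S.pQ t₀ ht₀P).symm ▸ hqQ)
        rw [← hCu _ hq']
        have h := (hCu' q hqQ).2 ((hCu q hqQ).2 hq)
        rw [hu'] at h
        calc u * (t₀⁻¹ * q * t₀) = t₀⁻¹ * (t₀ * u * t₀⁻¹ * q) * t₀ := by group
          _ = t₀⁻¹ * q * t₀ * u := by rw [h]; group
      have hfixD : MulAut.conj i' • S.D = S.D := by
        refine odd_sq_mem (nz S.D) (Odd.of_dvd_nat S.xodd (orderOf_pow_dvd i)) ?_
        show MulAut.conj (i' * i') • S.D = S.D
        rw [← cj_cj, hdD, cj_cj, mul_inv_cancel, cj_one]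
      exact hne ((hCu w (hW'Q hw)).2 (hfixD.symm ▸ ⟨hW'Q hw, S.W'Q' hw⟩)).symm
    have hgc : ∀ a ∈ gens, ∀ b ∈ gens, a * b = b * a := by
      intro a ha b hb
      rcases ha with ha' | ⟨k, hk, ha'⟩
      · exact S.W_comm ha' (hgenQ b hb)
      rcases hb with hb' | ⟨l, hl, hb'⟩
      · exact (S.W_comm hb' (hgenQ a (Or.inr ⟨k, hk, ha'⟩))).symm
      obtain ⟨i, p, hp, hkl⟩ := S.dec _ (S.H.mul_mem (S.H.inv_mem hk) hl)
      have hb2 : k⁻¹ * b * k ∈ MulAut.conj (S.x ^ i) • S.W' := by
        rw [← S.pW' p hp, cj_cj, ← hkl, mem_cj]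
        have := mem_cj.1 hb'
        convert this using 1
        group
      have h := hcomm i _ (mem_cj.1 ha') _ hb2
      calc a * b = k * ((k⁻¹ * a * k) * (k⁻¹ * b * k)) * k⁻¹ := by group
        _ = b * a := by rw [h]; group
    have hNea : Ea N := by
      have hab : ∀ a ∈ N, ∀ b ∈ N, a * b = b * a := by
        have h1 : ∀ a ∈ gens, ∀ b ∈ N, a * b = b * a := fun a ha b hb => by
          have : N ≤ Subgroup.centralizer ({a} : Set G) := (Subgroup.closure_le _).2 fun b hb =>
            Subgroup.mem_centralizer_singleton_iff.2 (hgc b hb a ha)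
          exact (Subgroup.mem_centralizer_singleton_iff.1 (this hb)).symm
        intro a ha b hb
        have : N ≤ Subgroup.centralizer ({b} : Set G) := (Subgroup.closure_le _).2 fun g hg =>
          Subgroup.mem_centralizer_singleton_iff.2 (h1 g hg b hb)
        exact Subgroup.mem_centralizer_singleton_iff.1 (this ha)
      intro g hg
      induction hg using Subgroup.closure_induction with
      | mem g hg => exact hgen2 g hg
      | one => simp
      | mul a b ha hb iha ihb =>
        calc a * b * (a * b) = a * (b * a) * b := by group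
          _ = (a * a) * (b * b) := by rw [hab b hb a ha]; group
          _ = 1 := by rw [iha, ihb, one_mul]
      | inv a _ iha => rw [← mul_inv_rev, iha, inv_one]
    obtain ⟨q₀, hq₀, hq₀'⟩ := S.exists_out'
    have hp₀ : S.y⁻¹ * q₀ * S.y ∉ S.Q := fun h => hq₀' (mem_cj.2 h)
    obtain ⟨w₁, hw₁, hw₁ne⟩ := S.W_moved hx (mem_cj.1 (S.yP.symm ▸ S.QP hq₀)) hp₀
    set w := S.y * w₁ * S.y⁻¹ with hw
    have hwW' : w ∈ S.W' := cj_mem hw₁
    have hwne : w * q₀ ≠ q₀ * w := by
      intro h
      apply hw₁ne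
      calc S.y⁻¹ * q₀ * S.y * w₁ = S.y⁻¹ * (q₀ * w) * S.y := by rw [hw]; group
        _ = _ := by rw [← h, hw]; group
    have hKD : S.Q ⊓ Subgroup.centralizer (N : Set G) ≤ S.D := fun q hq =>
      (S.cq hwW' hq₀ hwne hq.1).1 (Subgroup.mem_centralizer_iff.1 hq.2 w (hW'N hwW'))
    have hND : N ≤ S.D := fun g hg => (S.cq hwW' hq₀ hwne (hNQ hg)).1 (hNea.comm (hW'N hwW') hg)
    have hFD : F ≤ S.D := S.yD ▸ cj_le S.y hND
    have hFK : F ≤ S.Q ⊓ Subgroup.centralizer (N : Set G) := fun f hf =>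
      ⟨(hFD hf).1, Subgroup.mem_centralizer_iff.2 fun g hg => by
      refine comm_eq_iff.1 (zp_inter hcc hvv hvc ((hNv g hg).1 f (hFD hf).1) ?_)
      have h := Subgroup.inv_mem _ ((hFv f hf).1 g (hND hg).2)
      rwa [show (f * g * f⁻¹ * g⁻¹)⁻¹ = g * f * g⁻¹ * f⁻¹ by group] at h⟩
    have hvx : S.x * v * S.x⁻¹ ≠ S.x⁻¹ * v * S.x := by
      intro h
      have hxv : S.x * v = v * S.x := by
        have h2 : S.x * S.x ∈ Subgroup.centralizer ({v} : Set G) := by
          rw [Subgroup.mem_centralizer_singleton_iff]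
          calc S.x * S.x * v = S.x * (S.x * v * S.x⁻¹) * S.x := by group
            _ = v * (S.x * S.x) := by rw [h]; group
        exact Subgroup.mem_centralizer_singleton_iff.1 (odd_sq_mem _ S.xodd h2)
      have hfix : ∀ g : G, g * v * g⁻¹ = v → g * c * g⁻¹ = c →
          MulAut.conj g • (Subgroup.zpowers v ⊔ Subgroup.zpowers c) =
            Subgroup.zpowers v ⊔ Subgroup.zpowers c := by
        intro g h1 h2
        refine (Subgroup.eq_of_le_of_card_ge (sup_le (Subgroup.zpowers_le.2 ?_) (Subgroup.zpowers_le.2 ?_))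
          (by rw [cj_card])).symm
        · have := cj_mem (g := g) (Subgroup.mem_sup_left (T := Subgroup.zpowers c) (Subgroup.mem_zpowers v))
          rwa [h1] at this
        · have := cj_mem (g := g) (Subgroup.mem_sup_right (S := Subgroup.zpowers v) (Subgroup.mem_zpowers c))
          rwa [h2] at this
      have hyfix : MulAut.conj S.y • (Subgroup.zpowers v ⊔ Subgroup.zpowers c) =
          Subgroup.zpowers v ⊔ Subgroup.zpowers c := by
        refine (Subgroup.eq_of_le_of_card_ge (sup_le (Subgroup.zpowers_le.2 ?_) (Subgroup.zpowers_le.2 ?_))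
          (by rw [cj_card])).symm
        · have := cj_mem (g := S.y) (Subgroup.mem_sup_right (S := Subgroup.zpowers v) (Subgroup.mem_zpowers c))
          rwa [hyc] at this
        · have := cj_mem (g := S.y) (Subgroup.mem_sup_left (T := Subgroup.zpowers c) (Subgroup.mem_zpowers v))
          rwa [← hc] at this
      have hb := S.norm (sup_le (Subgroup.zpowers_le.2 hvZ.1) (Subgroup.zpowers_le.2 hcZ.1))
        (fun p hp => hfix p (by rw [hvZ.2.2 p hp]; group) (by rw [hcZ.2.2 p hp]; group))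
        (hfix S.x (by rw [hxv]; group) (by rw [hxc]; group)) hyfix
      exact hvne (Subgroup.mem_bot.1 (hb ▸ Subgroup.mem_sup_left (Subgroup.mem_zpowers v)))
    have hWN : S.W ≤ N := fun g hg => Subgroup.subset_closure (Or.inl hg)
    have hfix := S.level (E := N) (F := F) (c := v) hA ht htQ hNQ hNea hNn (hNea.cj _) hFP hFK hvv
      hvZ.2.2 hvx (fun f hf k hk => zp_invol hvv ((hFv f hf).1 k (hKD hk).2))
      (by
        have e : A ⊓ S.Q ⊓ Subgroup.centralizer (N : Set G) =
            A ⊓ (S.Q ⊓ Subgroup.centralizer (N : Set G)) := inf_assoc _ _ _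
        have hpair := pairing (A ⊓ S.Q) N c hcc (fun a ha => hcH a (S.PH (S.QP ha.2)))
          (fun g hg a ha => (hNv g hg).1 a ha.2)
        rw [e] at hpair
        calc Nat.card A * Nat.card ↥(N ⊓ Subgroup.centralizer (A : Set G))
            ≤ 2 * Nat.card ↥(A ⊓ S.Q) * Nat.card ↥(N ⊓ Subgroup.centralizer (A : Set G)) :=
              Nat.mul_le_mul_right _ hhalf
          _ = Nat.card ↥(A ⊓ S.Q) * (2 * Nat.card ↥(N ⊓ Subgroup.centralizer (A : Set G))) := by ring
          _ ≤ _ := (Nat.mul_le_mul_left _ (hstrict N hWN (fun _ h => hNQ h))).trans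
              (hpair.trans (le_of_eq (mul_comm _ _))))
    have hp : ∀ p ∈ S.P, MulAut.conj p • (N ⊔ F) = N ⊔ F := fun p hp => by
      rw [cj_sup, hNn p (S.PH hp), hFP p hp]
    have hy : MulAut.conj S.y • (N ⊔ F) = N ⊔ F := by
      rw [cj_sup, ← hF, hF, cj_cj, S.y2 N (hNQ.trans S.QP) (fun p hp => hNn p (S.PH hp)), sup_comm]
    have hb := S.norm (sup_le (hNQ.trans S.QP) (hFD.trans S.DP)) hp hfix hy
    have := le_bot_iff.1 ((hWN.trans le_sup_left).trans hb.le)
    exact S.Z_ne (le_bot_iff.1 ((S.ZW hx).trans this.le))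

end Cfsg.Agent.DihPush
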