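import Cfsg.Agent.Lib.DihedralPush.Setup

/-! An offending elementary abelian subgroup forces `x` to normalise a twisted product. -/

set_option autoImplicit false

namespace Cfsg.Agent.DihPush

open scoped Pointwise

variable {G : Type*} [Group G] [Finite G] (S : Setup G)

/-- an elementary abelian subgroup of `P` of largest order -/
def Setup.MaxEa (A : Subgroup G) : Prop :=
  Ea A ∧ A ≤ S.P ∧ ∀ B : Subgroup G, B ≤ S.P → Ea B → Nat.card B ≤ Nat.card A

omit [Finite G] in
theorem Setup.bot_ea : Ea (⊥ : Subgroup G) := fun a ha => by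
  rw [Subgroup.mem_bot] at ha; simp [ha]

theorem Setup.offender {A C M : Subgroup G} (hA : S.MaxEa A) (hCA : C ≤ A) (hM : Ea M) (hMP : M ≤ S.P)
    (hc : ∀ s ∈ C, ∀ u ∈ M, s * u = u * s) :
    Nat.card C * Nat.card M ≤ Nat.card A * Nat.card ↥(M ⊓ Subgroup.centralizer (A : Set G)) := by
  rw [← card_sup_comm C M hc]
  refine Nat.mul_le_mul (hA.2.2 _ (sup_le (hCA.trans hA.2.1) hMP) ((hA.1.mono hCA).sup hM hc))
    (Subgroup.card_le_of_le (le_inf inf_le_right fun u hu => ?_))
  rw [Subgroup.mem_centralizer_iff]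
  exact fun a ha => hA.1.comm ha (hCA hu.1)

omit [Finite G] in
/-- the commutator of `f` and `a` -/
theorem comm_eq_iff {f a : G} : f * a * f⁻¹ * a⁻¹ = 1 ↔ f * a = a * f := by
  rw [mul_inv_eq_one, mul_inv_eq_iff_eq_mul]

set_option maxHeartbeats 800000 in
theorem Setup.level {A E F : Subgroup G} {t c : G} (hA : S.MaxEa A) (ht : t ∈ A) (htQ : t ∉ S.Q)
    (hEQ : E ≤ S.Q) (hE : Ea E) (hEn : ∀ h ∈ S.H, MulAut.conj h • E = E)
    (hF : Ea F) (hFP : ∀ p ∈ S.P, MulAut.conj p • F = F)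
    (hFK : F ≤ S.Q ⊓ Subgroup.centralizer (E : Set G))
    (hc2 : c * c = 1) (hcP : ∀ p ∈ S.P, p * c = c * p)
    (hcx : S.x * c * S.x⁻¹ ≠ S.x⁻¹ * c * S.x)
    (hFk : ∀ f ∈ F, ∀ k ∈ S.Q ⊓ Subgroup.centralizer (E : Set G),
      f * k * f⁻¹ * k⁻¹ = 1 ∨ f * k * f⁻¹ * k⁻¹ = c)
    (hcard : Nat.card A * Nat.card ↥(E ⊓ Subgroup.centralizer (A : Set G)) ≤
      Nat.card E * Nat.card ↥(A ⊓ (S.Q ⊓ Subgroup.centralizer (E : Set G)))) :
    MulAut.conj S.x • (E ⊔ F) = E ⊔ F := by
  set K := S.Q ⊓ Subgroup.centralizer (E : Set G) with hKdef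
  set c1 := S.x * c * S.x⁻¹ with hc1
  set c2' := S.x⁻¹ * c * S.x with hc2'
  have htP : t ∈ S.P := hA.2.1 ht
  have htt : t * t = 1 := hA.1 t ht
  have htinv : t⁻¹ = t := hA.1.inv ht
  have hKP : K ≤ S.P := inf_le_left.trans S.QP
  have hKn : ∀ h ∈ S.H, MulAut.conj h • K = K := by
    intro h hh
    ext a
    rw [mem_cj, hKdef, Subgroup.mem_inf, Subgroup.mem_inf, Subgroup.mem_centralizer_iff,
      Subgroup.mem_centralizer_iff, ← mem_cj (g := h) (K := S.Q), S.QH h hh]
    refine and_congr_right fun _ => ⟨fun H e he => ?_, fun H e he => ?_⟩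
    · have h2 := H _ (mem_cj.1 ((hEn h hh).symm ▸ he))
      calc e * a = h * (h⁻¹ * e * h * (h⁻¹ * a * h)) * h⁻¹ := by group
        _ = a * e := by rw [h2]; group
    · have h2 := H _ (cj_mem_of (hEn h hh) he)
      calc e * (h⁻¹ * a * h) = h⁻¹ * (h * e * h⁻¹ * a) * h := by group
        _ = h⁻¹ * a * h * e := by rw [h2]; group
  have hxH := S.xH
  have hxK := hKn _ hxH
  -- the two rotated copies of `F`
  set F1 := MulAut.conj S.x • F with hF1
  have hF1K : F1 ≤ K := by
    have := cj_le S.x hFK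
    rwa [hxK] at this
  have hsw : MulAut.conj t • F1 = MulAut.conj S.x⁻¹ • F := S.swap htP htQ hFP
  have hF1e : Ea F1 := hF.cj _
  have hc1Q : ∀ q ∈ S.Q, q * c1 = c1 * q := by
    intro q hq
    have h := hcP _ (S.QP (mem_cj.1 (S.xQ.symm ▸ hq)))
    calc q * c1 = S.x * ((S.x⁻¹ * q * S.x) * c) * S.x⁻¹ := by rw [hc1]; group
      _ = c1 * q := by rw [h, hc1]; group
  have hc11 : c1 * c1 = 1 := by
    rw [hc1, show S.x * c * S.x⁻¹ * (S.x * c * S.x⁻¹) = S.x * (c * c) * S.x⁻¹ by group, hc2]; group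
  have hc22 : c2' * c2' = 1 := by
    rw [hc2', show S.x⁻¹ * c * S.x * (S.x⁻¹ * c * S.x) = S.x⁻¹ * (c * c) * S.x by group, hc2]; group
  have hct : t * c1 * t⁻¹ = c2' := S.flip_act htP htQ hcP
  have hk1 : ∀ f ∈ F1, ∀ k ∈ K, f * k * f⁻¹ * k⁻¹ = 1 ∨ f * k * f⁻¹ * k⁻¹ = c1 := by
    intro f hf k hk
    have hk' : S.x⁻¹ * k * S.x ∈ K := mem_cj.1 (hxK.symm ▸ hk)
    have e : f * k * f⁻¹ * k⁻¹ = S.x * ((S.x⁻¹ * f * S.x) * (S.x⁻¹ * k * S.x) * (S.x⁻¹ * f * S.x)⁻¹
        * (S.x⁻¹ * k * S.x)⁻¹) * S.x⁻¹ := by group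
    rcases hFk _ (mem_cj.1 hf) _ hk' with h | h
    · left; rw [e, h]; group
    · right; rw [e, h, hc1]
  have htK : ∀ k ∈ K, t * k * t⁻¹ ∈ K := fun k hk => cj_mem_of (hKn _ (S.PH htP)) hk
  -- a rotated element commutes with its reflection
  have hff : ∀ f ∈ F1, f * (t * f * t⁻¹) = t * f * t⁻¹ * f := by
    intro f hf
    have hf' := htK f (hF1K hf)
    rcases hk1 f hf _ hf' with h | h
    · exact comm_eq_iff.1 h
    · exfalso
      have h2 : t * (f * (t * f * t⁻¹) * f⁻¹ * (t * f * t⁻¹)⁻¹) * t⁻¹ = c2' := by rw [h, hct]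
      have h3 : f * (t * f * t⁻¹) * f⁻¹ * (t * f * t⁻¹)⁻¹ = c2'⁻¹ := by
        rw [← h2, show t * (f * (t * f * t⁻¹) * f⁻¹ * (t * f * t⁻¹)⁻¹) * t⁻¹
          = t * f * t⁻¹ * (t * t * f * (t * t)⁻¹) * (t * f * t⁻¹)⁻¹ * (t * t * f * (t * t)⁻¹)⁻¹ by group,
          htt]
        group
      rw [h, inv_eq_of_mul_eq_one_right hc22] at h3
      exact hcx h3
  -- the elementary group `E⟨f, f'⟩`
  set A' := A ⊓ K with hA'
  have hA'P : A' ≤ S.P := inf_le_left.trans hA.2.1
  have hpos : 0 < Nat.card E * Nat.card A' := Nat.mul_pos Nat.card_pos Nat.card_pos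
  have hcen : ∀ k ∈ K, ∀ e ∈ E, e * k = k * e := fun k hk => Subgroup.mem_centralizer_iff.1 hk.2
  have key : ∀ f ∈ F1, (∀ a ∈ A', f * a = a * f) := by
    intro f hf
    by_contra hne
    push Not at hne
    obtain ⟨a, ha, hne⟩ := hne
    set f' := t * f * t⁻¹ with hf'def
    have hfK := hF1K hf
    have hf'K : f' ∈ K := htK f hfK
    have hf2 : f * f = 1 := hF1e f hf
    have hf2' : f' * f' = 1 := by
      rw [hf'def, show t * f * t⁻¹ * (t * f * t⁻¹) = t * (f * f) * t⁻¹ by group, hf2]; group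
    have hfa : f * a * f⁻¹ * a⁻¹ = c1 := (hk1 f hf a ha.2).resolve_left (fun h => hne (comm_eq_iff.1 h))
    have hat : t * a = a * t := hA.1.comm ht ha.1
    have hta : t * a * t⁻¹ = a := by rw [hat]; group
    have hfa' : f' * a * f'⁻¹ * a⁻¹ = c2' := by
      calc f' * a * f'⁻¹ * a⁻¹ = f' * (t * a * t⁻¹) * f'⁻¹ * (t * a * t⁻¹)⁻¹ := by rw [hta]
        _ = t * (f * a * f⁻¹ * a⁻¹) * t⁻¹ := by rw [hf'def]; group
        _ = c2' := by rw [hfa, hct]
    have hc1ne : c1 ≠ 1 := fun h => hne (comm_eq_iff.1 (hfa.trans h))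
    have hc2ne : c2' ≠ 1 := fun h => by
      apply hc1ne
      calc c1 = t⁻¹ * (t * c1 * t⁻¹) * t := by group
        _ = 1 := by rw [hct, h]; group
    set Z := Subgroup.zpowers f
    set Z' := Subgroup.zpowers f'
    have hZc : ∀ s ∈ Z, ∀ u ∈ Z', s * u = u * s := by
      intro s hs u hu
      rcases mem_zpowers_invol hf2 hs with h₁ | h₁ <;> rcases mem_zpowers_invol hf2' hu with h₂ | h₂ <;>
        rw [h₁, h₂]
      · simp
      · simp
      · exact hff f hf
    set L := Z ⊔ Z' with hL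
    have hLK : L ≤ K := sup_le (Subgroup.zpowers_le.2 hfK) (Subgroup.zpowers_le.2 hf'K)
    have hLE : ∀ s ∈ E, ∀ u ∈ L, s * u = u * s := fun s hs u hu => hcen u (hLK hu) s hs
    have hLea : Ea L := (ea_zpowers hf2).sup (ea_zpowers hf2') hZc
    have hLtriv : ∀ l ∈ L, l * a = a * l → l = 1 := by
      intro l hl hla
      obtain ⟨s, hs, u, hu, rfl⟩ := mem_sup_comm hZc hl
      rcases mem_zpowers_invol hf2 hs with h₁ | h₁ <;> rcases mem_zpowers_invol hf2' hu with h₂ | h₂ <;>
        rw [h₁, h₂] at hla ⊢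
      · exact one_mul 1
      · rw [one_mul] at hla
        exact absurd (hfa'.symm.trans (comm_eq_iff.2 hla)) hc2ne
      · rw [mul_one] at hla
        exact absurd (hfa.symm.trans (comm_eq_iff.2 hla)) hc1ne
      · exfalso
        have h1 := comm_eq_iff.2 hla
        have e : f * f' * a * (f * f')⁻¹ * a⁻¹ = (f * (f' * a * f'⁻¹ * a⁻¹) * f⁻¹) * (f * a * f⁻¹ * a⁻¹) := by
          group
        have hc2f : f * c2' * f⁻¹ = c2' := by
          have hq : t⁻¹ * f * t ∈ S.Q := mem_cj.1 ((S.pQ t htP).symm ▸ hfK.1)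
          rw [← hct, show f * (t * c1 * t⁻¹) * f⁻¹ = t * ((t⁻¹ * f * t) * c1 * (t⁻¹ * f * t)⁻¹) * t⁻¹ by group,
            hc1Q _ hq]
          group
        rw [e, hfa', hfa, hc2f, mul_eq_one_iff_eq_inv, inv_eq_of_mul_eq_one_right hc11] at h1
        exact hcx h1.symm
    have hZZ : Z ⊓ Z' = ⊥ := by
      rw [eq_bot_iff]
      intro z hz
      rw [Subgroup.mem_bot]
      rcases mem_zpowers_invol hf2 hz.1 with h₁ | h₁
      · exact h₁
      · rcases mem_zpowers_invol hf2' hz.2 with h | h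
        · exact h
        · exfalso
          rw [(h₁.symm.trans h).symm] at hfa'
          exact hcx (hfa.symm.trans hfa')
    have hcL : Nat.card L = 4 := by
      have h := card_sup_comm Z Z' hZc
      have o1 : Nat.card Z = 2 := by
        rw [Nat.card_zpowers, orderOf_eq_prime (by rw [pow_two, hf2])]
        rintro rfl; simp at hne
      have o2 : Nat.card Z' = 2 := by
        rw [Nat.card_zpowers, orderOf_eq_prime (by rw [pow_two, hf2'])]
        intro h1; rw [h1] at hfa'; apply hc2ne; rw [← hfa']; group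
      rw [hZZ, o1, o2, Subgroup.card_bot, mul_one] at h
      exact h
    have hEa : ∀ e ∈ E, e * a = a * e := fun e he => hcen a ha.2 e he
    have hEL : E ⊓ L = ⊥ := by
      rw [eq_bot_iff]; intro z hz; rw [Subgroup.mem_bot]; exact hLtriv z hz.2 (hEa z hz.1)
    set M := E ⊔ L with hM
    have hMcard : Nat.card M = 4 * Nat.card E := by
      have h := card_sup_comm E L hLE
      rw [hEL, Subgroup.card_bot, mul_one, hcL, mul_comm] at h
      exact h
    have hMA : M ⊓ Subgroup.centralizer (A : Set G) ≤ E ⊓ Subgroup.centralizer (A : Set G) := by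
      rintro g ⟨hg, hgA⟩
      obtain ⟨e, he, l, hl, rfl⟩ := mem_sup_comm hLE hg
      have h := Subgroup.mem_centralizer_iff.1 hgA a ha.1
      have hl1 : l * a = a * l := by
        calc l * a = e⁻¹ * (e * l * a) := by group
          _ = e⁻¹ * (a * (e * l)) := by rw [h]
          _ = e⁻¹ * (a * e) * l := by group
          _ = a * l := by rw [← hEa e he]; group
      rw [hLtriv l hl hl1, mul_one] at hgA ⊢
      exact ⟨he, hgA⟩
    set C := A' ⊓ Subgroup.centralizer ({f} : Set G) with hC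
    have hCA : C ≤ A := inf_le_left.trans inf_le_left
    have hhalf : Nat.card A' ≤ 2 * Nat.card C := by
      refine card_le_two a fun b hb => ?_
      by_cases hfb : f * b = b * f
      · exact Or.inl ⟨hb, Subgroup.mem_centralizer_singleton_iff.2 hfb.symm⟩
      · refine Or.inr ⟨A'.mul_mem (A'.inv_mem ha) hb, Subgroup.mem_centralizer_singleton_iff.2 ?_⟩
        have hb1 := (hk1 f hf b hb.2).resolve_left (fun h => hfb (comm_eq_iff.1 h))
        have e1 : f * b * f⁻¹ = c1 * b := by rw [← hb1]; group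
        have e2 : f * a * f⁻¹ = c1 * a := by rw [← hfa]; group
        symm
        calc f * (a⁻¹ * b) = (f * a * f⁻¹)⁻¹ * (f * b * f⁻¹) * f := by group
          _ = a⁻¹ * b * f := by rw [e1, e2]; group
    have hCM : ∀ s ∈ C, ∀ u ∈ M, s * u = u * s := by
      intro s hs u hu
      obtain ⟨e, he, l, hl, rfl⟩ := mem_sup_comm hLE hu
      have hse : e * s = s * e := hcen s hs.1.2 e he
      have hsf : s * f = f * s := Subgroup.mem_centralizer_singleton_iff.1 hs.2
      have hst : s * t = t * s := hA.1.comm hs.1.1 ht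
      have hsf' : s * f' = f' * s := by
        have hst' : t⁻¹ * s = s * t⁻¹ := by rw [htinv]; exact hst.symm
        rw [hf'def]
        calc s * (t * f * t⁻¹) = t * (s * f) * t⁻¹ := by rw [← mul_assoc, ← mul_assoc, hst]; group
          _ = t * f * (t⁻¹ * s) := by rw [hsf, hst']; group
          _ = t * f * t⁻¹ * s := by group
      have hsl : s * l = l * s := by
        obtain ⟨p, hp, q, hq, rfl⟩ := mem_sup_comm hZc hl
        rcases mem_zpowers_invol hf2 hp with h₁ | h₁ <;> rcases mem_zpowers_invol hf2' hq with h₂ | h₂ <;>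
          rw [h₁, h₂]
        · simp
        · simpa using hsf'
        · simpa using hsf
        · calc s * (f * f') = (s * f) * f' := (mul_assoc _ _ _).symm
            _ = f * (s * f') := by rw [hsf]; exact mul_assoc _ _ _
            _ = f * f' * s := by rw [hsf']; exact (mul_assoc _ _ _).symm
      rw [← mul_assoc, ← hse, mul_assoc, hsl, mul_assoc]
    have hMea : Ea M := hE.sup hLea hLE
    have hMP : M ≤ S.P := sup_le (hEQ.trans S.QP) (hLK.trans hKP)
    have hoff := S.offender hA hCA hMea hMP hCM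
    have h2 := Subgroup.card_le_of_le hMA
    rw [hMcard] at hoff
    have hEpos : 0 < Nat.card E := Nat.card_pos
    have hCpos : 0 < Nat.card C := Nat.card_pos
    have h3 : Nat.card C * (4 * Nat.card E) ≤ Nat.card E * Nat.card A' :=
      hoff.trans ((Nat.mul_le_mul_left _ h2).trans hcard)
    have : Nat.card C * (4 * Nat.card E) ≤ Nat.card E * (2 * Nat.card C) :=
      h3.trans (Nat.mul_le_mul_left _ hhalf)
    nlinarith [Nat.mul_pos hCpos hEpos]
  -- so the reflection fixes the rotated copy modulo `E`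
  have hstep : ∀ f ∈ F1, t * f * t⁻¹ ∈ E ⊔ F1 := by
    intro f hf
    set f' := t * f * t⁻¹ with hf'def
    have hfK := hF1K hf
    have hf'K : f' ∈ K := htK f hfK
    have hf2 : f * f = 1 := hF1e f hf
    have hf2' : f' * f' = 1 := by
      rw [hf'def, show t * f * t⁻¹ * (t * f * t⁻¹) = t * (f * f) * t⁻¹ by group, hf2]; group
    have hff' : t * f' * t⁻¹ = f := by
      rw [hf'def, show t * (t * f * t⁻¹) * t⁻¹ = (t * t) * f * (t * t)⁻¹ by group, htt]; group
    have hZc : ∀ s ∈ Subgroup.zpowers f, ∀ u ∈ Subgroup.zpowers f', s * u = u * s := by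
      intro s hs u hu
      rcases mem_zpowers_invol hf2 hs with h₁ | h₁ <;> rcases mem_zpowers_invol hf2' hu with h₂ | h₂ <;>
        rw [h₁, h₂]
      · simp
      · simp
      · exact hff f hf
    set L := Subgroup.zpowers f ⊔ Subgroup.zpowers f' with hL
    have hLK : L ≤ K := sup_le (Subgroup.zpowers_le.2 hfK) (Subgroup.zpowers_le.2 hf'K)
    have hLE : ∀ s ∈ E, ∀ u ∈ L, s * u = u * s := fun s hs u hu => hcen u (hLK hu) s hs
    set M := E ⊔ L
    have hMea : Ea M := hE.sup ((ea_zpowers hf2).sup (ea_zpowers hf2') hZc) hLE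
    have hMP : M ≤ S.P := sup_le (hEQ.trans S.QP) (hLK.trans hKP)
    have hA'M : ∀ s ∈ A', ∀ u ∈ M, s * u = u * s := by
      intro s hs
      have hMC : M ≤ Subgroup.centralizer ({s} : Set G) := by
        refine sup_le (fun e he => ?_) (sup_le (Subgroup.zpowers_le.2 ?_) (Subgroup.zpowers_le.2 ?_))
        · exact Subgroup.mem_centralizer_singleton_iff.2 (hcen s hs.2 e he)
        · exact Subgroup.mem_centralizer_singleton_iff.2 (key f hf s hs)
        · refine Subgroup.mem_centralizer_singleton_iff.2 ?_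
          have hts : t * s = s * t := hA.1.comm ht hs.1
          have hst' : t⁻¹ * s = s * t⁻¹ := by rw [htinv]; exact hts
          calc f' * s = t * f * (t⁻¹ * s) := by rw [hf'def]; group
            _ = t * (f * s) * t⁻¹ := by rw [hst']; group
            _ = (t * s) * f * t⁻¹ := by rw [key f hf s hs]; group
            _ = s * f' := by rw [hts, hf'def]; group
      exact fun u hu => (Subgroup.mem_centralizer_singleton_iff.1 (hMC hu)).symm
    have hoff := S.offender hA inf_le_left hMea hMP hA'M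
    set Cm := M ⊓ Subgroup.centralizer (A : Set G) with hCm
    have hECm : ∀ s ∈ E, ∀ u ∈ Cm, s * u = u * s := by
      intro s hs u hu
      exact hMea.comm (Subgroup.mem_sup_left hs) hu.1
    have hprod := card_sup_comm E Cm hECm
    have hinter : E ⊓ Cm = E ⊓ Subgroup.centralizer (A : Set G) := by
      rw [hCm, ← inf_assoc, inf_eq_left.2 (le_sup_left : E ≤ M)]
    rw [hinter] at hprod
    have hle : E ⊔ Cm ≤ M := sup_le le_sup_left inf_le_left
    have hge : Nat.card M ≤ Nat.card ↥(E ⊔ Cm) := by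
      set a0 := Nat.card ↥(E ⊓ Subgroup.centralizer (A : Set G))
      have hp : 0 < Nat.card A' * a0 := Nat.mul_pos Nat.card_pos Nat.card_pos
      refine Nat.le_of_mul_le_mul_left ?_ hp
      calc Nat.card A' * a0 * Nat.card M = Nat.card A' * Nat.card M * a0 := by ring
        _ ≤ Nat.card A * Nat.card Cm * a0 := Nat.mul_le_mul_right _ hoff
        _ = Nat.card A * a0 * Nat.card Cm := by ring
        _ ≤ Nat.card E * Nat.card A' * Nat.card Cm := Nat.mul_le_mul_right _ hcard
        _ = Nat.card A' * (Nat.card E * Nat.card Cm) := by ring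
        _ = Nat.card A' * a0 * Nat.card ↥(E ⊔ Cm) := by rw [← hprod]; ring
    have heq := Subgroup.eq_of_le_of_card_ge hle hge
    obtain ⟨e, he, m, hm, hfem⟩ := mem_sup_comm hECm
      (heq.ge (Subgroup.mem_sup_right (Subgroup.mem_sup_left (Subgroup.mem_zpowers f))) : f ∈ E ⊔ Cm)
    have htm : t * m * t⁻¹ = m := by
      rw [Subgroup.mem_centralizer_iff.1 hm.2 t ht]; group
    have hte : t * e * t⁻¹ ∈ E := cj_mem_of (hEn t (S.PH htP)) he
    have : f' = (t * e * t⁻¹ * e⁻¹) * f := by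
      rw [hf'def, hfem]
      calc t * (e * m) * t⁻¹ = t * e * t⁻¹ * (t * m * t⁻¹) := by group
        _ = t * e * t⁻¹ * e⁻¹ * (e * m) := by rw [htm]; group
    rw [this]
    exact (E ⊔ F1).mul_mem (Subgroup.mem_sup_left (E.mul_mem hte (E.inv_mem he)))
      (Subgroup.mem_sup_right hf)
  have hle : MulAut.conj S.x⁻¹ • (E ⊔ F) ≤ MulAut.conj S.x • (E ⊔ F) := by
    rw [cj_sup, cj_sup, hEn _ (S.H.inv_mem hxH), hEn _ hxH, ← hsw]
    refine sup_le le_sup_left fun g hg => ?_
    have h := hstep _ (mem_cj.1 hg)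
    simpa [mul_assoc] using h
  have heq := Subgroup.eq_of_le_of_card_ge hle (by rw [cj_card, cj_card])
  refine odd_sq_mem (nz (E ⊔ F)) S.xodd ?_
  show MulAut.conj (S.x * S.x) • (E ⊔ F) = E ⊔ F
  calc MulAut.conj (S.x * S.x) • (E ⊔ F) = MulAut.conj S.x • (MulAut.conj S.x • (E ⊔ F)) := (cj_cj _ _ _).symm
    _ = MulAut.conj S.x • (MulAut.conj S.x⁻¹ • (E ⊔ F)) := by rw [heq]
    _ = E ⊔ F := by rw [cj_cj, mul_inv_cancel, cj_one]

end Cfsg.Agent.DihPush
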