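import Cfsg.Agent.Lib.DihedralPush.Level

/-! The elementary centre `W` of `Q`, and the transvection induced on it by `P`. -/

set_option autoImplicit false

namespace Cfsg.Agent.DihPush

open scoped Pointwise

variable {G : Type*} [Group G] [Finite G] (S : Setup G)

/-- the involutions of the centre of `Q` -/
def Setup.W : Subgroup G where
  carrier := {g | g ∈ S.Q ∧ g * g = 1 ∧ ∀ q ∈ S.Q, g * q = q * g}
  mul_mem' := by
    rintro a b ⟨ha, ha2, hac⟩ ⟨hb, hb2, hbc⟩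
    refine ⟨S.Q.mul_mem ha hb, ?_, fun q hq => ?_⟩
    · calc a * b * (a * b) = a * (b * a) * b := by group
        _ = (a * a) * (b * b) := by rw [hbc a ha]; group
        _ = 1 := by rw [ha2, hb2, one_mul]
    · calc a * b * q = a * q * b := by rw [mul_assoc, hbc q hq, ← mul_assoc]
        _ = q * (a * b) := by rw [hac q hq, mul_assoc]
  one_mem' := ⟨S.Q.one_mem, one_mul 1, fun q _ => by simp⟩
  inv_mem' := by
    rintro a ⟨ha, ha2, hac⟩
    rw [inv_eq_of_mul_eq_one_right ha2]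
    exact ⟨ha, ha2, hac⟩

omit [Finite G] in
theorem Setup.WQ : S.W ≤ S.Q := fun _ h => h.1

omit [Finite G] in
theorem Setup.W_ea : Ea S.W := fun _ h => h.2.1

omit [Finite G] in
theorem Setup.W_comm {w q : G} (hw : w ∈ S.W) (hq : q ∈ S.Q) : w * q = q * w := hw.2.2 q hq

omit [Finite G] in
theorem Setup.HW : ∀ h ∈ S.H, MulAut.conj h • S.W = S.W := by
  have one : ∀ h ∈ S.H, ∀ a ∈ S.W, h * a * h⁻¹ ∈ S.W := by
    rintro h hh a ⟨ha, ha2, hac⟩
    refine ⟨cj_mem_of (S.QH h hh) ha, ?_, fun q hq => ?_⟩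
    · rw [show h * a * h⁻¹ * (h * a * h⁻¹) = h * (a * a) * h⁻¹ by group, ha2]; group
    · have h2 := hac _ (mem_cj.1 ((S.QH h hh).symm ▸ hq))
      calc h * a * h⁻¹ * q = h * (a * (h⁻¹ * q * h)) * h⁻¹ := by group
        _ = q * (h * a * h⁻¹) := by rw [h2]; group
  intro h hh
  ext a
  rw [mem_cj]
  constructor
  · intro ha
    have := one h hh _ ha
    simpa [mul_assoc] using this
  · intro ha
    have := one _ (S.H.inv_mem hh) a ha
    simpa using this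

omit [Finite G] in
theorem Setup.pW : ∀ p ∈ S.P, MulAut.conj p • S.W = S.W := fun p hp => S.HW p (S.PH hp)

/-- the involutions of the centre of `P` -/
def Setup.Z : Subgroup G where
  carrier := {g | g ∈ S.P ∧ g * g = 1 ∧ ∀ p ∈ S.P, p * g = g * p}
  mul_mem' := by
    rintro a b ⟨ha, ha2, hac⟩ ⟨hb, hb2, hbc⟩
    refine ⟨S.P.mul_mem ha hb, ?_, fun q hq => ?_⟩
    · calc a * b * (a * b) = a * (b * a) * b := by group
        _ = (a * a) * (b * b) := by rw [hac b hb]; group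
        _ = 1 := by rw [ha2, hb2, one_mul]
    · calc q * (a * b) = a * q * b := by rw [← mul_assoc, hac q hq]
        _ = a * b * q := by rw [mul_assoc, hbc q hq, ← mul_assoc]
  one_mem' := ⟨S.P.one_mem, one_mul 1, fun q _ => by simp⟩
  inv_mem' := by
    rintro a ⟨ha, ha2, hac⟩
    rw [inv_eq_of_mul_eq_one_right ha2]
    exact ⟨ha, ha2, hac⟩

omit [Finite G] in
theorem Setup.yZ : MulAut.conj S.y • S.Z = S.Z := by
  have hP : ∀ a, a ∈ S.P ↔ S.y⁻¹ * a * S.y ∈ S.P := fun a => by rw [← mem_cj, S.yP]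
  ext a
  rw [mem_cj]
  constructor
  · rintro ⟨ha, ha2, hac⟩
    refine ⟨(hP a).2 ha, ?_, fun p hp => ?_⟩
    · calc a * a = S.y * (S.y⁻¹ * a * S.y * (S.y⁻¹ * a * S.y)) * S.y⁻¹ := by group
        _ = 1 := by rw [ha2]; group
    · calc p * a = S.y * ((S.y⁻¹ * p * S.y) * (S.y⁻¹ * a * S.y)) * S.y⁻¹ := by group
        _ = a * p := by rw [hac _ ((hP p).1 hp)]; group
  · rintro ⟨ha, ha2, hac⟩
    refine ⟨(hP a).1 ha, ?_, fun p hp => ?_⟩
    · calc S.y⁻¹ * a * S.y * (S.y⁻¹ * a * S.y) = S.y⁻¹ * (a * a) * S.y := by group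
        _ = 1 := by rw [ha2]; group
    · calc p * (S.y⁻¹ * a * S.y) = S.y⁻¹ * ((S.y * p * S.y⁻¹) * a) * S.y := by group
        _ = S.y⁻¹ * a * S.y * p := by rw [hac _ (cj_mem_of S.yP hp)]; group

omit [Finite G] in
theorem Setup.pZ : ∀ p ∈ S.P, MulAut.conj p • S.Z = S.Z := by
  intro p hp
  ext a
  rw [mem_cj]
  constructor
  · intro h
    have h2 := h.2.2 p hp
    have e : a = p⁻¹ * a * p := by
      calc a = p * (p⁻¹ * a * p) * p⁻¹ := by group
        _ = p⁻¹ * a * p := by rw [h2]; group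
    rwa [e]
  · intro h
    rwa [show p⁻¹ * a * p = a by rw [mul_assoc, ← h.2.2 p hp]; group]

theorem Setup.Z_ne : S.Z ≠ ⊥ := by
  intro h
  have hPne : S.P ≠ ⊥ := fun h' => S.Qne (le_bot_iff.1 (h' ▸ S.QP))
  haveI : Nontrivial S.P := (Subgroup.nontrivial_iff_ne_bot _).2 hPne
  haveI := S.pP.center_nontrivial
  obtain ⟨g, hg⟩ := exists_ne (1 : Subgroup.center S.P)
  obtain ⟨k, hk⟩ := (S.pP.to_subgroup (Subgroup.center S.P)) g
  classical
  let m := Nat.find (⟨k, hk⟩ : ∃ k, g ^ (2 ^ k) = 1)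
  have hm : g ^ (2 ^ m) = 1 := Nat.find_spec (⟨k, hk⟩ : ∃ k, g ^ (2 ^ k) = 1)
  obtain ⟨j, hj⟩ : ∃ j, m = j + 1 := Nat.exists_eq_add_one.2 (Nat.pos_of_ne_zero fun h0 => hg (by
    rw [h0, pow_zero, pow_one] at hm; exact hm))
  set z := g ^ (2 ^ j) with hz
  have hzne : z ≠ 1 := fun h0 => Nat.find_min (⟨k, hk⟩ : ∃ k, g ^ (2 ^ k) = 1) (show j < m by omega) h0
  have hzz : z * z = 1 := by rw [hz, ← pow_add, ← two_mul, ← pow_succ', ← hj]; exact hm
  have hmem : ((z : S.P) : G) ∈ S.Z := by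
    refine ⟨(z : S.P).2, ?_, fun p hp => ?_⟩
    · have := congrArg (fun w : Subgroup.center S.P => ((w : S.P) : G)) hzz
      simpa using this
    · have := congrArg (fun w : S.P => (w : G)) (Subgroup.mem_center_iff.1 z.2 ⟨p, hp⟩)
      simpa using this
  rw [h, Subgroup.mem_bot] at hmem
  exact hzne (by ext; exact hmem)

/-- the hypothesis that `x` acts nontrivially on `Q` -/
def Setup.Moves : Prop := ∃ q ∈ S.Q, S.x * q ≠ q * S.x

theorem Setup.ZW (hx : S.Moves) : S.Z ≤ S.W := by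
  rintro z ⟨hz, hz2, hzc⟩
  exact ⟨S.central_mem hx hz hzc, hz2, fun q hq => (hzc q (S.QP hq)).symm⟩

theorem Setup.x_W (hx : S.Moves) : ∃ w ∈ S.W, S.x * w ≠ w * S.x := by
  by_contra hc
  push Not at hc
  refine S.Z_ne (S.norm (fun _ h => h.1) S.pZ ?_ S.yZ)
  ext a
  rw [mem_cj]
  constructor
  · intro h
    have h2 := hc _ (S.ZW hx h)
    have e : a = S.x⁻¹ * a * S.x := by
      calc a = S.x * (S.x⁻¹ * a * S.x) * S.x⁻¹ := by group
        _ = S.x⁻¹ * a * S.x := by rw [h2]; group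
    rwa [e]
  · intro h
    rwa [show S.x⁻¹ * a * S.x = a by rw [mul_assoc, ← hc a (S.ZW hx h)]; group]

/-- an element of `P` outside `Q` moves `W` -/
theorem Setup.W_moved (hx : S.Moves) {t : G} (ht : t ∈ S.P) (htQ : t ∉ S.Q) :
    ∃ w ∈ S.W, t * w ≠ w * t := by
  by_contra hc
  push Not at hc
  obtain ⟨w₀, hw₀, hne⟩ := S.x_W hx
  have hq := S.flip t ht htQ
  have fix : ∀ w ∈ S.W, t * w * t⁻¹ = w := fun w hw => by rw [hc w hw]; group
  have hx2 : S.x * S.x ∈ Subgroup.centralizer (S.W : Set G) := by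
    rw [Subgroup.mem_centralizer_iff]
    intro w hw
    have hxw : S.x * w * S.x⁻¹ ∈ S.W := cj_mem_of (S.HW _ S.xH) hw
    have hxxw : S.x * (S.x * w * S.x⁻¹) * S.x⁻¹ ∈ S.W := cj_mem_of (S.HW _ S.xH) hxw
    have e : S.x * (t * S.x * t⁻¹) * w * (S.x * (t * S.x * t⁻¹))⁻¹
        = S.x * S.x * w * (S.x * S.x)⁻¹ := by
      calc S.x * (t * S.x * t⁻¹) * w * (S.x * (t * S.x * t⁻¹))⁻¹
          = S.x * (t * (S.x * (t⁻¹ * w * t) * S.x⁻¹) * t⁻¹) * S.x⁻¹ := by group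
        _ = S.x * (t * (S.x * w * S.x⁻¹) * t⁻¹) * S.x⁻¹ := by
          rw [show t⁻¹ * w * t = w by rw [mul_assoc, ← hc w hw]; group]
        _ = S.x * S.x * w * (S.x * S.x)⁻¹ := by rw [fix _ hxw]; group
    have e2 : S.x * (t * S.x * t⁻¹) * w * (S.x * (t * S.x * t⁻¹))⁻¹ = w := by
      rw [← S.W_comm hw hq, mul_inv_cancel_right]
    calc w * (S.x * S.x) = S.x * S.x * w * (S.x * S.x)⁻¹ * (S.x * S.x) := by rw [← e, e2]
      _ = S.x * S.x * w := by group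
  exact hne ((Subgroup.mem_centralizer_iff.1 (odd_sq_mem _ S.xodd hx2)) w₀ hw₀).symm

theorem Setup.exists_max : ∃ A, S.MaxEa A := by
  classical
  obtain ⟨A, ⟨hA, hAP⟩, hmax⟩ := Set.exists_max_image {A : Subgroup G | Ea A ∧ A ≤ S.P}
    (fun A => Nat.card A) (Set.toFinite _) ⟨⊥, Setup.bot_ea, bot_le⟩
  exact ⟨A, hA, hAP, fun B hB hBe => hmax B ⟨hBe, hB⟩⟩

theorem Setup.exists_big : ∃ A t, S.MaxEa A ∧ t ∈ A ∧ t ∉ S.Q := by
  classical
  by_contra hc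
  push Not at hc
  have hsub : ∀ A, S.MaxEa A → A ≤ S.Q := fun A hA a ha => hc A a hA ha
  set J := ⨆ A : {A // S.MaxEa A}, (A : Subgroup G) with hJ
  have hJQ : J ≤ S.Q := iSup_le fun A => hsub _ A.2
  have move : ∀ g : G, MulAut.conj g • S.Q ≤ S.P → MulAut.conj g • J ≤ J := by
    intro g hg
    have hstep : J ≤ MulAut.conj g⁻¹ • J := by
      refine iSup_le fun A => ?_
      have h2 : S.MaxEa (MulAut.conj g • (A : Subgroup G)) :=
        ⟨A.2.1.cj g, (cj_le g (hsub _ A.2)).trans hg, fun B hB hBe => by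
          rw [cj_card]; exact A.2.2.2 B hB hBe⟩
      have h3 := cj_le g⁻¹ (le_iSup (fun A : {A // S.MaxEa A} => (A : Subgroup G)) ⟨_, h2⟩)
      rwa [cj_cj, inv_mul_cancel, cj_one] at h3
    have := cj_le g hstep
    rwa [cj_cj, mul_inv_cancel, cj_one] at this
  have fixed : ∀ g : G, MulAut.conj g • S.Q ≤ S.P → MulAut.conj g • J = J := fun g hg =>
    Subgroup.eq_of_le_of_card_ge (move g hg) (by rw [cj_card])
  have hJP : J ≤ S.P := hJQ.trans S.QP
  have hbot := S.norm hJP (fun p hp => fixed p (by rw [S.pQ p hp]; exact S.QP))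
    (fixed _ (by rw [S.xQ]; exact S.QP)) (fixed _ S.Q'P)
  obtain ⟨A, hA⟩ := S.exists_max
  have hAbot : A = ⊥ := le_bot_iff.1 (hbot ▸ le_iSup (fun A : {A // S.MaxEa A} => (A : Subgroup G)) ⟨A, hA⟩)
  have hZ : Nat.card S.Z ≤ Nat.card A := hA.2.2 S.Z (fun _ h => h.1) (fun _ h => h.2.1)
  rw [hAbot, Subgroup.card_bot] at hZ
  exact S.Z_ne (Subgroup.eq_bot_of_card_le _ hZ)

/-- the commutators of `W` with `P` form a group of order two -/
theorem Setup.transvection (hx : S.Moves) :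
    ∃ v : G, v ∈ S.Z ∧ v ≠ 1 ∧ ∀ w ∈ S.W, ∀ p ∈ S.P,
      w * p * w⁻¹ * p⁻¹ = 1 ∨ w * p * w⁻¹ * p⁻¹ = v := by
  obtain ⟨A, t, hA, ht, htQ⟩ := S.exists_big
  have htP := hA.2.1 ht
  obtain ⟨w₀, hw₀, hne⟩ := S.W_moved hx htP htQ
  -- `A ∩ Q` has index two in `A`
  have hhalf : Nat.card A ≤ 2 * Nat.card ↥(A ⊓ S.Q) := by
    refine card_le_two t fun a ha => ?_
    by_cases haQ : a ∈ S.Q
    · exact Or.inl ⟨ha, haQ⟩
    · exact Or.inr ⟨A.mul_mem (A.inv_mem ht) ha,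
        (two_split S.QP S.card2 (S.P.inv_mem htP) (hA.2.1 ha)).2 (by simp [htQ, haQ])⟩
  have hoff := S.offender hA (inf_le_left : A ⊓ S.Q ≤ A) S.W_ea (S.WQ.trans S.QP)
    (fun s hs u hu => (S.W_comm hu hs.2).symm)
  set C := S.W ⊓ Subgroup.centralizer (A : Set G) with hCdef
  have hCW : Nat.card S.W ≤ 2 * Nat.card C := by
    have hpos : 0 < Nat.card ↥(A ⊓ S.Q) := Nat.card_pos
    refine Nat.le_of_mul_le_mul_left ?_ hpos
    calc Nat.card ↥(A ⊓ S.Q) * Nat.card S.W ≤ Nat.card A * Nat.card C := hoff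
      _ ≤ 2 * Nat.card ↥(A ⊓ S.Q) * Nat.card C := Nat.mul_le_mul_right _ hhalf
      _ = _ := by ring
  have hCt : ∀ w ∈ C, t * w = w * t := fun w hw => Subgroup.mem_centralizer_iff.1 hw.2 t ht
  have hcardW : Nat.card S.W = 2 * Nat.card C := by
    refine le_antisymm hCW ?_
    have hlt : Nat.card C < Nat.card S.W := by
      refine lt_of_le_of_ne (Subgroup.card_le_of_le inf_le_left) fun h => ?_
      exact hne (hCt w₀ ((Subgroup.eq_of_le_of_card_ge inf_le_left h.ge).ge hw₀))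
    obtain ⟨k, hk⟩ : ∃ k, Nat.card S.W = Nat.card C * k :=
      Subgroup.card_dvd_of_le (inf_le_left : C ≤ S.W)
    rw [hk] at hlt ⊢
    have : 2 ≤ k := by
      rcases k with _ | _ | k
      · rw [mul_zero] at hlt; omega
      · rw [zero_add, mul_one] at hlt; omega
      · omega
    rw [mul_comm]
    exact Nat.mul_le_mul_left _ this
  set v := w₀ * t * w₀⁻¹ * t⁻¹ with hv
  have hvW : v ∈ S.W := by
    have : t * w₀⁻¹ * t⁻¹ ∈ S.W := cj_mem_of (S.pW t htP) (S.W.inv_mem hw₀)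
    have e : v = w₀ * (t * w₀⁻¹ * t⁻¹) := by rw [hv]; group
    rw [e]; exact S.W.mul_mem hw₀ this
  have hvne : v ≠ 1 := fun h => hne (comm_eq_iff.1 h).symm
  have val : ∀ w ∈ S.W, w * t * w⁻¹ * t⁻¹ = 1 ∨ w * t * w⁻¹ * t⁻¹ = v := by
    intro w hw
    by_cases hwt : t * w = w * t
    · exact Or.inl (comm_eq_iff.2 hwt.symm)
    · right
      have hw0C : w₀ ∉ C := fun h => hne (hCt _ h)
      have hwC : w ∉ C := fun h => hwt (hCt _ h)
      have hprod := (two_split inf_le_left hcardW (S.W.inv_mem hw₀) hw).2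
        (by simp only [Subgroup.inv_mem_iff]; exact iff_of_false hw0C hwC)
      have h1 := hCt _ hprod
      have h2 : t⁻¹ * (w₀⁻¹ * w) * t = w₀⁻¹ * w := by rw [mul_assoc, ← h1]; group
      rw [hv]
      calc w * t * w⁻¹ * t⁻¹ = w * t * (w₀⁻¹ * w)⁻¹ * w₀⁻¹ * t⁻¹ := by group
        _ = w * t * (t⁻¹ * (w₀⁻¹ * w) * t)⁻¹ * w₀⁻¹ * t⁻¹ := by rw [h2]
        _ = w₀ * t * w₀⁻¹ * t⁻¹ := by group
  have gen : ∀ w ∈ S.W, ∀ p ∈ S.P, w * p * w⁻¹ * p⁻¹ = 1 ∨ w * p * w⁻¹ * p⁻¹ = v := by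
    intro w hw p hp
    by_cases hpQ : p ∈ S.Q
    · exact Or.inl (comm_eq_iff.2 (S.W_comm hw hpQ))
    · have hq : t⁻¹ * p ∈ S.Q := (two_split S.QP S.card2 (S.P.inv_mem htP) hp).2 (by simp [htQ, hpQ])
      have h := S.W_comm (S.W.inv_mem hw) hq
      have e : w * p * w⁻¹ * p⁻¹ = w * t * w⁻¹ * t⁻¹ := by
        calc w * p * w⁻¹ * p⁻¹ = w * t * ((t⁻¹ * p) * w⁻¹) * (t⁻¹ * p)⁻¹ * t⁻¹ := by group
          _ = w * t * w⁻¹ * t⁻¹ := by rw [← h]; group
      rw [e]; exact val w hw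
  refine ⟨v, ⟨S.QP (S.WQ hvW), S.W_ea v hvW, fun p hp => ?_⟩, hvne, gen⟩
  by_cases hpQ : p ∈ S.Q
  · exact (S.W_comm hvW hpQ).symm
  · have hq : t⁻¹ * p ∈ S.Q := (two_split S.QP S.card2 (S.P.inv_mem htP) hp).2 (by simp [htQ, hpQ])
    have ht2 : t * t = 1 := hA.1 t ht
    have htv : t * v * t⁻¹ = v := by
      calc t * v * t⁻¹ = t * w₀ * t * w₀⁻¹ * (t * t)⁻¹ := by rw [hv]; group
        _ = t * w₀ * t * w₀⁻¹ := by rw [ht2]; group
        _ = (w₀ * t⁻¹ * w₀⁻¹ * t⁻¹)⁻¹ := by group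
        _ = v⁻¹ := by rw [hA.1.inv ht, hv, hA.1.inv ht]
        _ = v := S.W_ea.inv hvW
    calc p * v = t * ((t⁻¹ * p) * v) := by group
      _ = t * v * t⁻¹ * p := by rw [← S.W_comm hvW hq]; group
      _ = v * p := by rw [htv]

end Cfsg.Agent.DihPush
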