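import Cfsg.Agent.Lib.DihedralPush.Basic

/-! A two-group `P` in a group whose top is dihedral, with an outer twist `y`. -/

set_option autoImplicit false

namespace Cfsg.Agent.DihPush

open scoped Pointwise

variable {G : Type*} [Group G] [Finite G]

structure Setup (G : Type*) [Group G] where
  H : Subgroup G
  P : Subgroup G
  Q : Subgroup G
  y : G
  x : G
  QP : Q ≤ P
  PH : P ≤ H
  pP : IsPGroup 2 P
  QH : ∀ h ∈ H, MulAut.conj h • Q = Q
  yP : MulAut.conj y • P = P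
  y2 : ∀ K : Subgroup G, K ≤ P → (∀ p ∈ P, MulAut.conj p • K = K) → MulAut.conj (y * y) • K = K
  y2fix : ∀ a ∈ P, (∀ p ∈ P, p * a = a * p) → y * y * a * (y * y)⁻¹ = a
  hN : ∀ K : Subgroup G, K ≤ P → (∀ h ∈ H, MulAut.conj h • K = K) → MulAut.conj y • K = K → K = ⊥
  Qne : Q ≠ ⊥
  card2 : Nat.card P = 2 * Nat.card Q
  xH : x ∈ H
  xodd : Odd (orderOf x)
  dec : ∀ h ∈ H, ∃ i : ℕ, ∃ p ∈ P, h = x ^ i * p
  flip : ∀ t ∈ P, t ∉ Q → x * (t * x * t⁻¹) ∈ Q

variable (S : Setup G)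

/-- the twisted copy of `Q` -/
def Setup.Q' : Subgroup G := MulAut.conj S.y • S.Q

/-- the intersection of `Q` with its twist -/
def Setup.D : Subgroup G := S.Q ⊓ S.Q'

omit [Finite G] in
theorem Setup.xQ : MulAut.conj S.x • S.Q = S.Q := S.QH _ S.xH

omit [Finite G] in
theorem Setup.pQ : ∀ p ∈ S.P, MulAut.conj p • S.Q = S.Q := fun p hp => S.QH p (S.PH hp)

omit [Finite G] in
theorem Setup.norm {K : Subgroup G} (hK : K ≤ S.P) (hp : ∀ p ∈ S.P, MulAut.conj p • K = K)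
    (hx : MulAut.conj S.x • K = K) (hy : MulAut.conj S.y • K = K) : K = ⊥ := by
  refine S.hN K hK (fun h hh => ?_) hy
  obtain ⟨i, p, hpP, rfl⟩ := S.dec h hh
  exact (nz K).mul_mem ((nz K).pow_mem hx i) (hp p hpP)

omit [Finite G] in
theorem Setup.Q'P : S.Q' ≤ S.P := by
  have := cj_le S.y S.QP
  rwa [S.yP] at this

omit [Finite G] in
theorem Setup.yQ' : MulAut.conj S.y • S.Q' = S.Q := by
  rw [Setup.Q', cj_cj, S.y2 S.Q S.QP S.pQ]

omit [Finite G] in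
theorem Setup.DQ : S.D ≤ S.Q := inf_le_left

omit [Finite G] in
theorem Setup.DP : S.D ≤ S.P := S.DQ.trans S.QP

omit [Finite G] in
theorem Setup.yD : MulAut.conj S.y • S.D = S.D := by
  rw [Setup.D, cj_inf, S.yQ', inf_comm]; rfl

omit [Finite G] in
theorem Setup.pcj {p : G} (hp : p ∈ S.P) {K : Subgroup G} (hK : ∀ p ∈ S.P, MulAut.conj p • K = K) :
    MulAut.conj p • (MulAut.conj S.y • K) = MulAut.conj S.y • K := by
  have hp' : S.y⁻¹ * p * S.y ∈ S.P := mem_cj.1 (S.yP.symm ▸ hp)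
  calc MulAut.conj p • (MulAut.conj S.y • K)
      = MulAut.conj S.y • (MulAut.conj (S.y⁻¹ * p * S.y) • K) := by
        rw [cj_cj, cj_cj]; congr 2; group
    _ = MulAut.conj S.y • K := by rw [hK _ hp']

omit [Finite G] in
theorem Setup.pQ' : ∀ p ∈ S.P, MulAut.conj p • S.Q' = S.Q' := fun _ hp => S.pcj hp S.pQ

omit [Finite G] in
theorem Setup.pD : ∀ p ∈ S.P, MulAut.conj p • S.D = S.D := fun p hp => by
  rw [Setup.D, cj_inf, S.pQ p hp, S.pQ' p hp]

omit [Finite G] in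
theorem Setup.ne : S.Q' ≠ S.Q := fun h => S.Qne (S.norm S.QP S.pQ S.xQ h)

theorem Setup.card' : Nat.card S.P = 2 * Nat.card S.Q' := by
  rw [Setup.Q', cj_card]; exact S.card2

theorem Setup.exists_out : ∃ a ∈ S.Q', a ∉ S.Q := by
  by_contra hc
  push Not at hc
  exact S.ne (Subgroup.eq_of_le_of_card_ge hc (by rw [Setup.Q', cj_card]))

theorem Setup.exists_out' : ∃ a ∈ S.Q, a ∉ S.Q' := by
  by_contra hc
  push Not at hc
  exact S.ne (Subgroup.eq_of_le_of_card_ge hc (by rw [Setup.Q', cj_card])).symm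

theorem Setup.cardD : Nat.card S.Q = 2 * Nat.card S.D := by
  obtain ⟨a, ha, ha'⟩ := S.exists_out'
  refine le_antisymm (card_le_two a fun b hb => ?_) ?_
  · by_cases hb' : b ∈ S.Q'
    · exact Or.inl ⟨hb, hb'⟩
    · refine Or.inr ⟨S.Q.mul_mem (S.Q.inv_mem ha) hb, ?_⟩
      exact (two_split S.Q'P S.card' (S.QP (S.Q.inv_mem ha)) (S.QP hb)).2
        (by simp [ha', hb'])
  · have hlt : Nat.card S.D < Nat.card S.Q := by
      refine lt_of_le_of_ne (Subgroup.card_le_of_le S.DQ) fun h => ?_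
      exact ha' ((Subgroup.eq_of_le_of_card_ge S.DQ h.ge).ge ha).2
    obtain ⟨k, hk⟩ := Subgroup.card_dvd_of_le S.DQ
    rw [hk] at hlt ⊢
    have hD : 0 < Nat.card S.D := Nat.card_pos
    have : 2 ≤ k := by
      by_contra hk2
      interval_cases k <;> omega
    rw [mul_comm]
    exact Nat.mul_le_mul_left _ this

omit [Finite G] in
theorem Setup.flip_pow {t : G} (ht : t ∈ S.P) (htQ : t ∉ S.Q) (i : ℕ) :
    S.x ^ i * (t * S.x ^ i * t⁻¹) ∈ S.Q := by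
  induction i with
  | zero => simp
  | succ i ih =>
    have h1 := cj_mem_of S.xQ ih
    have : S.x ^ (i + 1) * (t * S.x ^ (i + 1) * t⁻¹)
        = (S.x * (S.x ^ i * (t * S.x ^ i * t⁻¹)) * S.x⁻¹) * (S.x * (t * S.x * t⁻¹)) := by
      rw [pow_succ]
      conv_lhs => enter [1]; rw [← pow_succ, pow_succ']
      group
    rw [this]
    exact S.Q.mul_mem h1 (S.flip t ht htQ)

omit [Finite G] in
theorem Setup.swap_pow {t : G} (ht : t ∈ S.P) (htQ : t ∉ S.Q) {K : Subgroup G}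
    (hK : ∀ p ∈ S.P, MulAut.conj p • K = K) (i : ℕ) :
    MulAut.conj t • (MulAut.conj (S.x ^ i) • K) = MulAut.conj ((S.x ^ i)⁻¹) • K := by
  have hq := S.QP (S.flip_pow ht htQ i)
  have e : t * S.x ^ i = (S.x ^ i)⁻¹ * (S.x ^ i * (t * S.x ^ i * t⁻¹) * t) := by group
  rw [cj_cj, e, ← cj_cj, hK _ (S.P.mul_mem hq ht)]

omit [Finite G] in
theorem Setup.swap {t : G} (ht : t ∈ S.P) (htQ : t ∉ S.Q) {K : Subgroup G}
    (hK : ∀ p ∈ S.P, MulAut.conj p • K = K) :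
    MulAut.conj t • (MulAut.conj S.x • K) = MulAut.conj S.x⁻¹ • K := by
  simpa using S.swap_pow ht htQ hK 1

omit [Finite G] in
theorem Setup.flip_act {t : G} (ht : t ∈ S.P) (htQ : t ∉ S.Q) {c : G}
    (hc : ∀ p ∈ S.P, p * c = c * p) :
    t * (S.x * c * S.x⁻¹) * t⁻¹ = S.x⁻¹ * c * S.x := by
  have hq := S.P.mul_mem (S.QP (S.flip t ht htQ)) ht
  have h := hc _ hq
  calc t * (S.x * c * S.x⁻¹) * t⁻¹
      = S.x⁻¹ * ((S.x * (t * S.x * t⁻¹) * t) * c) * (S.x * (t * S.x * t⁻¹) * t)⁻¹ * S.x := by group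
    _ = S.x⁻¹ * c * S.x := by rw [h]; group

/-- a central involution of `P` lies in `Q` unless `x` centralises `Q` -/
theorem Setup.central_mem (hx : ∃ q ∈ S.Q, S.x * q ≠ q * S.x) {z : G} (hz : z ∈ S.P)
    (hzc : ∀ p ∈ S.P, p * z = z * p) : z ∈ S.Q := by
  by_contra hzQ
  obtain ⟨q₀, hq₀, hne⟩ := hx
  set a := S.x * (z * S.x * z⁻¹) with ha
  have haQ : a ∈ S.Q := S.flip z hz hzQ
  have hg : a⁻¹ * (S.x * S.x) ∈ Subgroup.centralizer (S.Q : Set G) := by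
    rw [Subgroup.mem_centralizer_iff]
    intro q hq
    have h1 := hzc q (S.QP hq)
    have h2 := hzc _ (S.QP (cj_mem_of S.xQ hq))
    have e : a * q * a⁻¹ = S.x * S.x * q * (S.x * S.x)⁻¹ := by
      calc a * q * a⁻¹ = S.x * (z * (S.x * (z⁻¹ * q * z) * S.x⁻¹) * z⁻¹) * S.x⁻¹ := by
            rw [ha]; group
        _ = S.x * (z * (S.x * q * S.x⁻¹) * z⁻¹) * S.x⁻¹ := by
            rw [show z⁻¹ * q * z = q by rw [mul_assoc, h1]; group]
        _ = S.x * (S.x * q * S.x⁻¹) * S.x⁻¹ := by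
            rw [show z * (S.x * q * S.x⁻¹) * z⁻¹ = S.x * q * S.x⁻¹ by rw [← h2]; group]
        _ = _ := by group
    calc q * (a⁻¹ * (S.x * S.x)) = a⁻¹ * (a * q * a⁻¹) * (S.x * S.x) := by group
      _ = a⁻¹ * (S.x * S.x) * q := by rw [e]; group
  obtain ⟨k, hk⟩ := S.pP ⟨a, S.QP haQ⟩
  have hk' : a ^ (2 ^ k) = 1 := by simpa using congrArg Subtype.val hk
  have hcomm : Commute a (a⁻¹ * (S.x * S.x)) := (Subgroup.mem_centralizer_iff.1 hg a haQ)
  have hpow : S.x ^ (2 ^ (k + 1)) ∈ Subgroup.centralizer (S.Q : Set G) := by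
    have e : S.x ^ (2 ^ (k + 1)) = (a⁻¹ * (S.x * S.x)) ^ (2 ^ k) := by
      calc S.x ^ (2 ^ (k + 1)) = (a * (a⁻¹ * (S.x * S.x))) ^ (2 ^ k) := by
            rw [mul_inv_cancel_left, ← pow_two, ← pow_mul, pow_succ']
        _ = _ := by rw [hcomm.mul_pow, hk', one_mul]
    rw [e]
    exact Subgroup.pow_mem _ hg _
  exact hne (Subgroup.mem_centralizer_iff.1 (odd_mem _ S.xodd hpow) q₀ hq₀).symm

end Cfsg.Agent.DihPush
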