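import Cfsg.Agent.Lib.DihedralPush.Descent

/-! With the twist of `W` outside `Q`, the group `Q` is elementary of order four or eight. -/

set_option autoImplicit false

namespace Cfsg.Agent.DihPush

open scoped Pointwise

variable {G : Type*} [Group G] [Finite G] (S : Setup G)

theorem two_mem {K : Subgroup G} (h : Nat.card K ≤ 2) {a b : G} (ha : a ∈ K) (hb : b ∈ K)
    (ha1 : a ≠ 1) (hb1 : b ≠ 1) : a = b := by
  classical
  by_contra hab
  haveI := Fintype.ofFinite K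
  have h3 : ({1, ⟨a, ha⟩, ⟨b, hb⟩} : Finset K).card = 3 := by
    simp [Ne.symm ha1, Ne.symm hb1, hab, Subtype.ext_iff]
  have := Finset.card_le_univ ({1, ⟨a, ha⟩, ⟨b, hb⟩} : Finset K)
  rw [h3, ← Nat.card_eq_fintype_card] at this
  omega

theorem Setup.not_two (hx : S.Moves) : ¬ Nat.card S.Q ≤ 2 := by
  intro h
  obtain ⟨q, hq, hne⟩ := hx
  have hq1 : q ≠ 1 := fun e => hne (by simp [e])
  have hq2 : S.x * q * S.x⁻¹ ≠ 1 := fun e => hq1 (by
    calc q = S.x⁻¹ * (S.x * q * S.x⁻¹) * S.x := by group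
      _ = 1 := by rw [e]; group)
  apply hne
  calc S.x * q = (S.x * q * S.x⁻¹) * S.x := by group
    _ = q * S.x := by rw [two_mem h (cj_mem_of S.xQ hq) hq hq2 hq1]

set_option maxHeartbeats 800000 in
theorem Setup.small (hx : S.Moves) :
    Ea S.Q ∧ ∃ t ∈ S.P, t ∉ S.Q ∧ t * t = 1 ∧ ∃ M : Subgroup G, M ≤ S.Q ∧ Nat.card M ≤ 2 ∧
      Nat.card S.Q = 4 * Nat.card M ∧ (∀ h ∈ S.H, ∀ m ∈ M, h * m = m * h) := by
  obtain ⟨t, ht', htQ⟩ : ∃ t ∈ S.W', t ∉ S.Q := by
    by_contra hc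
    push Not at hc
    exact S.not_in hx hc
  have htP : t ∈ S.P := S.Q'P (S.W'Q' ht')
  have htt : t * t = 1 := S.W'_ea t ht'
  have htinv : t⁻¹ = t := S.W'_ea.inv ht'
  have htD : ∀ d ∈ S.D, t * d = d * t := fun d hd => S.W'_comm ht' hd.2
  set M := S.D ⊓ MulAut.conj S.x • S.D with hM
  have hMD : M ≤ S.D := inf_le_left
  have hxDQ : MulAut.conj S.x • S.D ≤ S.Q := S.xQ ▸ cj_le S.x S.DQ
  have hQM : S.Q ≤ nz M := by
    intro q hq
    show MulAut.conj q • M = M
    have hq' : S.x⁻¹ * q * S.x ∈ S.Q := mem_cj.1 (S.xQ.symm ▸ hq)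
    rw [hM, cj_inf, S.pD q (S.QP hq), cj_cj,
      show q * S.x = S.x * (S.x⁻¹ * q * S.x) by group, ← cj_cj, S.pD _ (S.QP hq')]
  have hMt : ∀ m ∈ M, t * m = m * t := fun m hm => htD m hm.1
  have htM : t ∈ nz M := by
    show MulAut.conj t • M = M
    ext m
    rw [mem_cj]
    constructor
    · intro h
      have h2 := hMt _ h
      have e : m = t⁻¹ * m * t := by
        calc m = t * (t⁻¹ * m * t) * t⁻¹ := by group
          _ = t⁻¹ * m * t := by rw [h2]; group
      rwa [e]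
    · intro h
      rwa [show t⁻¹ * m * t = m by rw [mul_assoc, ← hMt m h]; group]
  have hPM : S.P ≤ nz M := by
    intro p hp
    by_cases hpQ : p ∈ S.Q
    · exact hQM hpQ
    · have hq : t⁻¹ * p ∈ S.Q := (two_split S.QP S.card2 (S.P.inv_mem htP) hp).2 (by simp [htQ, hpQ])
      have := (nz M).mul_mem htM (hQM hq)
      rwa [mul_inv_cancel_left] at this
  set z := t * (S.x * t * S.x⁻¹) with hz
  have hzM : ∀ m ∈ M, z * m = m * z := by
    intro m hm
    have h1 := hMt m hm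
    have h2 := htD _ (mem_cj.1 hm.2)
    have h3 : S.x * t * S.x⁻¹ * m = m * (S.x * t * S.x⁻¹) := by
      calc S.x * t * S.x⁻¹ * m = S.x * (t * (S.x⁻¹ * m * S.x)) * S.x⁻¹ := by group
        _ = m * (S.x * t * S.x⁻¹) := by rw [h2]; group
    calc z * m = t * (S.x * t * S.x⁻¹ * m) := by rw [hz]; group
      _ = (t * m) * (S.x * t * S.x⁻¹) := by rw [h3]; group
      _ = m * z := by rw [h1, hz]; group
  have hzn : z ∈ nz M := by
    show MulAut.conj z • M = M
    ext m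
    rw [mem_cj]
    constructor
    · intro h
      have h2 := hzM _ h
      have e : m = z⁻¹ * m * z := by
        calc m = z * (z⁻¹ * m * z) * z⁻¹ := by group
          _ = z⁻¹ * m * z := by rw [h2]; group
      rwa [e]
    · intro h
      rwa [show z⁻¹ * m * z = m by rw [mul_assoc, ← hzM m h]; group]
  have hxM : S.x ∈ nz M := by
    refine odd_sq_mem _ S.xodd ?_
    have ha := S.flip t htP htQ
    have ha' : S.x⁻¹ * (S.x * (t * S.x * t⁻¹)) * S.x ∈ S.Q := mem_cj.1 (S.xQ.symm ▸ ha)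
    have e : S.x * S.x = z⁻¹ * (S.x⁻¹ * (S.x * (t * S.x * t⁻¹)) * S.x) := by
      calc S.x * S.x = S.x * (t * t)⁻¹ * S.x := by rw [htt]; group
        _ = _ := by rw [hz]; group
    rw [e]
    exact (nz M).mul_mem ((nz M).inv_mem hzn) (hQM ha')
  have hHM : ∀ h ∈ S.H, MulAut.conj h • M = M := by
    intro h hh
    obtain ⟨i, p, hp, rfl⟩ := S.dec h hh
    exact (nz M).mul_mem ((nz M).pow_mem hxM i) (hPM hp)
  have hMP : M ≤ S.P := hMD.trans S.DP
  have hyM : MulAut.conj S.y • M ≤ S.D := S.yD ▸ cj_le S.y hMD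
  have hK : M ⊓ MulAut.conj S.y • M = ⊥ := by
    refine S.norm (inf_le_left.trans hMP) (fun p hp => ?_) ?_ ?_
    · rw [cj_inf, hHM p (S.PH hp), S.pcj hp (fun p hp => hHM p (S.PH hp))]
    · have hxm := hHM _ S.xH
      refine Subgroup.eq_of_le_of_card_ge (fun g hg => ?_) (by rw [cj_card])
      rw [mem_cj] at hg
      have hgM : g ∈ M := by rw [← hxm, mem_cj]; exact hg.1
      have h2 := hzM _ hg.1
      refine ⟨hgM, ?_⟩
      -- `x` centralises what `z` and `Q` centralise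
      have hcK : ∀ q ∈ S.Q, MulAut.conj q • (M ⊓ MulAut.conj S.y • M) = M ⊓ MulAut.conj S.y • M :=
        fun q hq => by rw [cj_inf, hHM q (S.PH (S.QP hq)), S.pcj (S.QP hq) (fun p hp => hHM p (S.PH hp))]
      have hzK : MulAut.conj z • (M ⊓ MulAut.conj S.y • M) = M ⊓ MulAut.conj S.y • M := by
        refine (Subgroup.eq_of_le_of_card_ge (fun m hm => ?_) (by rw [cj_card])).symm
        rw [mem_cj, show z⁻¹ * m * z = m by rw [mul_assoc, ← hzM m hm.1]; group]
        exact hm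
      have hxK : S.x ∈ nz (M ⊓ MulAut.conj S.y • M) := by
        refine odd_sq_mem _ S.xodd ?_
        have ha := S.flip t htP htQ
        have ha' : S.x⁻¹ * (S.x * (t * S.x * t⁻¹)) * S.x ∈ S.Q := mem_cj.1 (S.xQ.symm ▸ ha)
        have e : S.x * S.x = z⁻¹ * (S.x⁻¹ * (S.x * (t * S.x * t⁻¹)) * S.x) := by
          calc S.x * S.x = S.x * (t * t)⁻¹ * S.x := by rw [htt]; group
            _ = _ := by rw [hz]; group
        rw [e]
        exact (nz _).mul_mem ((nz _).inv_mem hzK) (hcK _ ha')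
      have := cj_mem_of hxK hg
      simpa [mul_assoc] using this.2
    · rw [cj_inf, cj_cj, S.y2 M hMP (fun p hp => hHM p (S.PH hp)), inf_comm]
  have hxDc : Nat.card S.Q = 2 * Nat.card ↥(MulAut.conj S.x • S.D) := by rw [cj_card]; exact S.cardD
  have hne : M ≠ S.D := by
    intro h
    have hb := S.norm S.DP S.pD (h ▸ hHM _ S.xH) S.yD
    have := S.cardD
    rw [hb, Subgroup.card_bot] at this
    exact S.not_two hx (by omega)
  obtain ⟨s, hs, hsM⟩ : ∃ s ∈ S.D, s ∉ M := by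
    by_contra hc
    push Not at hc
    exact hne (le_antisymm hMD hc)
  have hcover : ∀ b ∈ S.D, b ∈ M ∨ s⁻¹ * b ∈ M := by
    intro b hb
    by_cases hbx : b ∈ MulAut.conj S.x • S.D
    · exact Or.inl ⟨hb, hbx⟩
    · refine Or.inr ⟨S.D.mul_mem (S.D.inv_mem hs) hb, ?_⟩
      exact (two_split hxDQ hxDc (S.Q.inv_mem (S.DQ hs)) (S.DQ hb)).2
        (by simp only [Subgroup.inv_mem_iff]; exact iff_of_false (fun h => hsM ⟨hs, h⟩) hbx)
  have hD2 : Nat.card S.D ≤ 2 * Nat.card M := card_le_two s hcover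
  have hD2' : 2 * Nat.card M ≤ Nat.card S.D := by
    obtain ⟨k, hk⟩ : ∃ k, Nat.card S.D = Nat.card M * k := Subgroup.card_dvd_of_le hMD
    have hnle : ¬ Nat.card S.D ≤ Nat.card M := fun h => hne (Subgroup.eq_of_le_of_card_ge hMD h)
    rw [hk] at hnle ⊢
    have : 2 ≤ k := by
      rcases k with _ | _ | k
      · rw [mul_zero] at hnle; omega
      · rw [zero_add, mul_one] at hnle; omega
      · omega
    rw [mul_comm]; exact Nat.mul_le_mul_left _ this
  have hprod : Nat.card M * Nat.card M ≤ Nat.card S.D := by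
    let f : M × ↥(MulAut.conj S.y • M) → S.D :=
      fun p => ⟨p.1 * p.2, S.D.mul_mem (hMD p.1.2) (hyM p.2.2)⟩
    have hf : Function.Injective f := by
      rintro ⟨a, b⟩ ⟨a', b'⟩ h
      have h' : (a : G) * b = a' * b' := congrArg Subtype.val h
      have h1 : (a' : G)⁻¹ * a ∈ M ⊓ MulAut.conj S.y • M := ⟨M.mul_mem (M.inv_mem a'.2) a.2, by
        rw [show (a' : G)⁻¹ * a = b' * (b : G)⁻¹ by
          calc (a' : G)⁻¹ * a = (a' : G)⁻¹ * (a * b) * (b : G)⁻¹ := by group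
            _ = b' * (b : G)⁻¹ := by rw [h']; group]
        exact Subgroup.mul_mem _ b'.2 (Subgroup.inv_mem _ b.2)⟩
      rw [hK, Subgroup.mem_bot, inv_mul_eq_one] at h1
      have ea : a = a' := Subtype.ext h1.symm
      subst ea
      exact Prod.ext rfl (Subtype.ext (mul_left_cancel h'))
    have := Nat.card_le_card_of_injective f hf
    rwa [Nat.card_prod, cj_card] at this
  have hM2 : Nat.card M ≤ 2 := by
    have hpos : 0 < Nat.card M := Nat.card_pos
    nlinarith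
  have hcH : ∀ h ∈ S.H, ∀ m ∈ M, h * m = m * h := by
    intro h hh m hm
    by_cases hm1 : m = 1
    · simp [hm1]
    · have hne1 : h * m * h⁻¹ ≠ 1 := fun e => hm1 (by
        calc m = h⁻¹ * (h * m * h⁻¹) * h := by group
          _ = 1 := by rw [e]; group)
      calc h * m = h * m * h⁻¹ * h := by group
        _ = m * h := by rw [two_mem hM2 (cj_mem_of (hHM h hh) hm) hm hne1 hm1]
  -- `Q` is elementary abelian
  have hDab : ∀ a ∈ S.D, ∀ b ∈ S.D, a * b = b * a := by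
    have hm : ∀ m ∈ M, ∀ b ∈ S.D, m * b = b * m := fun m hm b hb => (hcH b (S.PH (S.DP hb)) m hm).symm
    intro a ha b hb
    rcases hcover a ha with h1 | h1
    · exact hm a h1 b hb
    rcases hcover b hb with h2 | h2
    · exact (hm b h2 a ha).symm
    calc a * b = s * ((s⁻¹ * a) * s) * (s⁻¹ * b) := by group
      _ = s * s * ((s⁻¹ * a) * (s⁻¹ * b)) := by rw [hm _ h1 s hs]; group
      _ = s * s * ((s⁻¹ * b) * (s⁻¹ * a)) := by rw [hm _ h1 _ (S.D.mul_mem (S.D.inv_mem hs) hb)]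
      _ = s * ((s⁻¹ * b) * s) * (s⁻¹ * a) := by rw [hm _ h2 s hs]; group
      _ = b * a := by group
  have hQ'sq : ∀ r ∈ S.Q', ∃ d ∈ S.D, r * r = d * d := by
    intro r hr
    by_cases hrQ : r ∈ S.Q
    · exact ⟨r, ⟨hrQ, hr⟩, rfl⟩
    · have hd : t⁻¹ * r ∈ S.Q :=
        (two_split S.QP S.card2 (S.P.inv_mem htP) (S.Q'P hr)).2 (by simp [htQ, hrQ])
      have hdD : t⁻¹ * r ∈ S.D := ⟨hd, S.Q'.mul_mem (S.Q'.inv_mem (S.W'Q' ht')) hr⟩
      refine ⟨t⁻¹ * r, hdD, ?_⟩
      calc r * r = t * ((t⁻¹ * r) * t) * (t⁻¹ * r) := by group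
        _ = t * t * (t⁻¹ * r) * (t⁻¹ * r) := by rw [← htD _ hdD]; group
        _ = t⁻¹ * r * (t⁻¹ * r) := by rw [htt]; group
  let Sq : Subgroup G :=
    { carrier := {g | ∃ d ∈ S.D, g = d * d}
      mul_mem' := by
        rintro _ _ ⟨a, ha, rfl⟩ ⟨b, hb, rfl⟩
        exact ⟨a * b, S.D.mul_mem ha hb, by
          calc a * a * (b * b) = a * (a * b) * b := by group
            _ = a * (b * a) * b := by rw [hDab a ha b hb]
            _ = a * b * (a * b) := by group⟩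
      one_mem' := ⟨1, S.D.one_mem, (one_mul 1).symm⟩
      inv_mem' := by
        rintro _ ⟨a, ha, rfl⟩
        exact ⟨a⁻¹, S.D.inv_mem ha, (mul_inv_rev a a)⟩ }
  have hQsq : ∀ q ∈ S.Q, q * q ∈ Sq := by
    intro q hq
    have hr : S.y * q * S.y⁻¹ ∈ S.Q' := cj_mem hq
    obtain ⟨d, hd, he⟩ := hQ'sq _ hr
    refine ⟨S.y⁻¹ * d * S.y, mem_cj.1 (S.yD.symm ▸ hd), ?_⟩
    calc q * q = S.y⁻¹ * (S.y * q * S.y⁻¹ * (S.y * q * S.y⁻¹)) * S.y := by group
      _ = _ := by rw [he]; group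
  have hSqP : Sq ≤ S.P := by
    rintro _ ⟨d, hd, rfl⟩; exact S.P.mul_mem (S.DP hd) (S.DP hd)
  have hfixSq : ∀ g : G, (∀ d ∈ S.D, g * d * g⁻¹ ∈ S.Q) → MulAut.conj g • Sq = Sq := by
    intro g hg
    refine Subgroup.eq_of_le_of_card_ge ?_ (by rw [cj_card])
    intro a ha
    obtain ⟨d, hd, he⟩ := mem_cj.1 ha
    have := hQsq _ (hg d hd)
    rwa [show g * d * g⁻¹ * (g * d * g⁻¹) = a by
      calc g * d * g⁻¹ * (g * d * g⁻¹) = g * (d * d) * g⁻¹ := by group
        _ = a := by rw [← he]; group] at this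
  have hSq : Sq = ⊥ := S.norm hSqP
    (fun p hp => hfixSq p fun d hd => cj_mem_of (S.pQ p hp) (S.DQ hd))
    (hfixSq _ fun d hd => cj_mem_of S.xQ (S.DQ hd))
    (hfixSq _ fun d hd => (cj_mem_of S.yD hd).1)
  refine ⟨fun q hq => ?_, t, htP, htQ, htt, M, hMD.trans S.DQ, hM2, ?_, hcH⟩
  · have := hQsq q hq
    rwa [hSq, Subgroup.mem_bot] at this
  · rw [S.cardD]; omega

end Cfsg.Agent.DihPush
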