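import Cfsg.Agent.Lib.DihedralPush.Small
import Cfsg.Agent.Lib.Cores.PCore

/-! The isomorphism type modulo the odd core. -/

set_option autoImplicit false

namespace Cfsg.Agent.DihPush

open scoped Pointwise

variable {G : Type*} [Group G] [Finite G] (S : Setup G)

theorem odd_two_eq_one {g : G} (ho : Odd (orderOf g)) {k : ℕ} (h : g ^ (2 ^ k) = 1) : g = 1 :=
  Subgroup.mem_bot.1 (odd_mem ⊥ ho (k := k) (Subgroup.mem_bot.2 h))

theorem Setup.odd_P {g : G} (ho : Odd (orderOf g)) (hg : g ∈ S.P) : g = 1 := by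
  obtain ⟨k, hk⟩ := S.pP ⟨g, hg⟩
  exact odd_two_eq_one ho (k := k) (by simpa using congrArg Subtype.val hk)

omit [Finite G] in
theorem pow_of_normal {K : Subgroup G} {g a : G} (hg : MulAut.conj g • K = K) (ha : a ∈ K) :
    ∀ k : ℕ, ∃ b ∈ K, (a * g) ^ k = b * g ^ k := by
  intro k
  induction k with
  | zero => exact ⟨1, K.one_mem, by simp⟩
  | succ k ih =>
    obtain ⟨b, hb, he⟩ := ih
    refine ⟨b * (g ^ k * a * (g ^ k)⁻¹), K.mul_mem hb (cj_mem_of ((nz K).pow_mem hg k) ha), ?_⟩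
    rw [pow_succ, he, pow_succ]; group

theorem klein_prod : IsKleinFour (Multiplicative (ZMod 2) × Multiplicative (ZMod 2)) := by
  refine ⟨by simp, ?_⟩
  rw [Monoid.exponent_eq_prime_iff Nat.prime_two]
  intro g hg
  have : ∀ g : Multiplicative (ZMod 2) × Multiplicative (ZMod 2), g ^ 2 = 1 := by decide
  exact orderOf_eq_prime (this g) hg

theorem lift_equiv {K T : Type*} [Group K] [Group T] [Finite K] (O : Subgroup K) [O.Normal] (f : K →* T)
    (hker : f.ker = O) (hc : Nat.card (K ⧸ O) = Nat.card T) : Nonempty (K ⧸ O ≃* T) := by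
  haveI : Finite T := Nat.finite_of_card_ne_zero (hc ▸ Nat.card_pos.ne')
  haveI := Fintype.ofFinite T
  haveI := Fintype.ofFinite (K ⧸ O)
  let φ : K ⧸ O →* T := QuotientGroup.lift O f hker.ge
  have hinj : Function.Injective φ := by
    rw [injective_iff_map_eq_one]
    intro a ha
    induction a using QuotientGroup.induction_on with
    | H k =>
      rw [QuotientGroup.eq_one_iff]
      exact hker.le ha
  exact ⟨MulEquiv.ofBijective φ ((Fintype.bijective_iff_injective_and_card φ).2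
    ⟨hinj, by rw [← Nat.card_eq_fintype_card, ← Nat.card_eq_fintype_card, hc]⟩)⟩

theorem Setup.top_small (hx : ¬ S.Moves) :
    Nat.card S.P = 4 ∧
      Nonempty (↥S.H ⧸ Cfsg.oddCore ↥S.H ≃* Multiplicative (ZMod 2) × Multiplicative (ZMod 2)) := by
  have hxc : ∀ q ∈ S.Q, S.x * q = q * S.x := by
    intro q hq
    by_contra h
    exact hx ⟨q, hq, h⟩
  have hxD : MulAut.conj S.x • S.D = S.D := by
    refine (Subgroup.eq_of_le_of_card_ge (fun d hd => ?_) (by rw [cj_card])).symm
    rw [mem_cj, mul_assoc, ← hxc d hd.1]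
    simpa using hd
  have hD := S.norm S.DP S.pD hxD S.yD
  have hQ2 : Nat.card S.Q = 2 := by rw [S.cardD, hD, Subgroup.card_bot]
  have hP4 : Nat.card S.P = 4 := by rw [S.card2, hQ2]
  refine ⟨hP4, ?_⟩
  have sq : ∀ K : Subgroup G, Nat.card K = 2 → Ea K := by
    intro K hK a ha
    have := pow_card_eq_one' (G := K) (x := ⟨a, ha⟩)
    rw [hK, pow_two] at this
    exact congrArg Subtype.val this
  have hQe := sq _ hQ2
  have hQ'2 : Nat.card S.Q' = 2 := by rw [Setup.Q', cj_card, hQ2]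
  have hQ'e := sq _ hQ'2
  have hcomm : ∀ a ∈ S.Q, ∀ b ∈ S.Q', a * b = b * a := by
    intro a ha b hb
    by_cases ha1 : a = 1
    · simp [ha1]
    have hne : b * a * b⁻¹ ≠ 1 := fun e => ha1 (by
      calc a = b⁻¹ * (b * a * b⁻¹) * b := by group
        _ = 1 := by rw [e]; group)
    calc a * b = b * a * b⁻¹ * b := by rw [two_mem hQ2.le (cj_mem_of (S.pQ b (S.Q'P hb)) ha) ha hne ha1]
      _ = b * a := by group
  have hsup : S.Q ⊔ S.Q' = S.P := by
    refine Subgroup.eq_of_le_of_card_ge (sup_le S.QP S.Q'P) ?_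
    have h := card_sup_comm S.Q S.Q' hcomm
    rw [show S.Q ⊓ S.Q' = ⊥ from hD, Subgroup.card_bot, mul_one, hQ2, hQ'2] at h
    rw [hP4, h]
  have hPe : Ea S.P := hsup ▸ hQe.sup hQ'e hcomm
  -- the odd core
  set Xg := Subgroup.zpowers S.x
  set X := Xg.subgroupOf S.H with hX
  have hflip : ∀ p ∈ S.P, p * S.x * p⁻¹ ∈ Xg := by
    intro p hp
    by_cases hpQ : p ∈ S.Q
    · rw [← hxc p hpQ, mul_inv_cancel_right]; exact Subgroup.mem_zpowers _
    · have ha := S.flip p hp hpQ
      set a := S.x * (p * S.x * p⁻¹) with hadef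
      have hcm : Commute S.x⁻¹ a := (show Commute S.x a from hxc a ha).inv_left
      have h1 : (p * S.x * p⁻¹) ^ orderOf S.x = 1 := by rw [conj_pow, pow_orderOf_eq_one]; group
      have h2 : p * S.x * p⁻¹ = S.x⁻¹ * a := by rw [hadef]; group
      rw [h2, hcm.mul_pow, inv_pow, pow_orderOf_eq_one, inv_one, one_mul] at h1
      obtain ⟨k, hk⟩ := S.xodd
      rw [hk, pow_succ, pow_mul, pow_two, hQe a ha, one_pow, one_mul] at h1
      rw [h2, h1, mul_one]
      exact Subgroup.inv_mem _ (Subgroup.mem_zpowers _)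
  have hnorm : ∀ h ∈ S.H, h ∈ nz Xg := by
    intro h hh
    obtain ⟨i, p, hp, rfl⟩ := S.dec h hh
    refine (nz Xg).mul_mem (self_le_nz Xg (Subgroup.pow_mem _ (Subgroup.mem_zpowers _) i)) ?_
    refine (Subgroup.eq_of_le_of_card_ge (Subgroup.zpowers_le.2 ?_) (by rw [cj_card])).symm
    rw [mem_cj]
    have := hflip p⁻¹ (S.P.inv_mem hp)
    simpa using this
  haveI hXn : X.Normal := ⟨fun a ha g => by
    rw [hX, Subgroup.mem_subgroupOf] at ha ⊢
    simpa using cj_mem_of (hnorm _ g.2) ha⟩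
  have hXodd : Odd (Nat.card X) := by
    rw [hX, Nat.card_congr (Subgroup.subgroupOfEquivOfLe (Subgroup.zpowers_le.2 S.xH)).toEquiv,
      Nat.card_zpowers]
    exact S.xodd
  let f : S.P →* ↥S.H ⧸ X := (QuotientGroup.mk' X).comp (Subgroup.inclusion S.PH)
  have hf : Function.Bijective f := by
    refine ⟨(injective_iff_map_eq_one _).2 fun p hp => ?_, fun b => ?_⟩
    · have h' : Subgroup.inclusion S.PH p ∈ X := (QuotientGroup.eq_one_iff _).1 hp
      have h : (p : G) ∈ Xg := Subgroup.mem_subgroupOf.1 h'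
      refine Subtype.ext (S.odd_P ?_ p.2)
      refine Odd.of_dvd_nat S.xodd ?_
      exact (Subgroup.orderOf_dvd_natCard _ h).trans (dvd_of_eq (Nat.card_zpowers _))
    · induction b using QuotientGroup.induction_on with
      | H h =>
        obtain ⟨i, p, hp, he⟩ := S.dec h h.2
        refine ⟨⟨p, hp⟩, ?_⟩
        rw [MonoidHom.comp_apply, QuotientGroup.mk'_apply, QuotientGroup.eq, hX, Subgroup.mem_subgroupOf]
        simp only [Subgroup.coe_mul, Subgroup.coe_inv, Subgroup.coe_inclusion, he]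
        have := cj_mem_of (hnorm _ (S.H.inv_mem (S.PH hp))) (Subgroup.pow_mem Xg (Subgroup.mem_zpowers S.x) i)
        simpa [mul_assoc] using this
  have hcard : Nat.card (↥S.H ⧸ X) = 4 := by rw [← Nat.card_eq_of_bijective f hf, hP4]
  have hO : Cfsg.oddCore ↥S.H = X := by
    refine le_antisymm (fun g hg => ?_) (Cfsg.Agent.Lib.Cores.le_oddCore hXn hXodd)
    have hgo : Odd (orderOf g) := by
      refine Odd.of_dvd_nat (Cfsg.Agent.Lib.Cores.odd_card_oddCore ↥S.H) ?_
      exact Subgroup.orderOf_dvd_natCard _ hg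
    have h4 : g ^ (2 ^ 2) ∈ X := by
      rw [← QuotientGroup.eq_one_iff, QuotientGroup.mk_pow, show (2 : ℕ) ^ 2 = Nat.card (↥S.H ⧸ X) by
        rw [hcard]; norm_num]
      exact pow_card_eq_one'
    exact odd_mem X hgo h4
  haveI : IsKleinFour (↥S.H ⧸ X) := by
    haveI : Nontrivial (↥S.H ⧸ X) := Finite.one_lt_card_iff_nontrivial.1 (by omega)
    refine ⟨hcard, ?_⟩
    rw [Monoid.exponent_eq_prime_iff Nat.prime_two]
    intro b hb
    obtain ⟨p, rfl⟩ := hf.2 b
    refine orderOf_eq_prime ?_ hb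
    rw [← map_pow, show p ^ 2 = 1 from Subtype.ext (by simpa [pow_two] using hPe p p.2), map_one]
  haveI := klein_prod
  exact ⟨(QuotientGroup.quotientMulEquivOfEq hO).trans IsKleinFour.nonempty_mulEquiv.some⟩

end Cfsg.Agent.DihPush
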