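import Cfsg.Agent.Lib.DihedralPush.Top

/-! The cases isomorphic to the symmetric group of degree four modulo the odd core. -/

set_option autoImplicit false

namespace Cfsg.Agent.DihPush

open scoped Pointwise

variable {G : Type*} [Group G] [Finite G] (S : Setup G)

/-- a map of odd order cannot move by an element it fixes of order two -/
theorem odd_shift {g q m : G} (ho : Odd (orderOf g)) (h : g * q * g⁻¹ = q * m) (hm : g * m * g⁻¹ = m)
    (hm2 : m * m = 1) : g * q * g⁻¹ = q := by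
  have h2 : g * g ∈ Subgroup.centralizer ({q} : Set G) := by
    rw [Subgroup.mem_centralizer_singleton_iff]
    calc g * g * q = g * (g * q * g⁻¹) * g := by group
      _ = g * (q * m) * g := by rw [h]
      _ = (g * q * g⁻¹) * (g * m * g⁻¹) * (g * g) := by group
      _ = q * (m * m) * (g * g) := by rw [h, hm]; group
      _ = q * (g * g) := by rw [hm2]; group
  have := Subgroup.mem_centralizer_singleton_iff.1 (odd_sq_mem _ ho h2)
  rw [this]; group

set_option maxHeartbeats 2000000 in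
theorem Setup.top_big (hx : S.Moves) :
    (Nat.card S.P = 8 ∧ Nonempty (↥S.H ⧸ Cfsg.oddCore ↥S.H ≃* Equiv.Perm (Fin 4))) ∨
    (Nat.card S.P = 16 ∧
      Nonempty (↥S.H ⧸ Cfsg.oddCore ↥S.H ≃* Equiv.Perm (Fin 4) × Multiplicative (ZMod 2))) := by
  classical
  obtain ⟨hQe, t, htP, htQ, htt, M, hMQ, hM2, hQM, hMH⟩ := S.small hx
  have htinv : t⁻¹ = t := inv_eq_of_mul_eq_one_right htt
  have htH := S.PH htP
  have hPsplit : ∀ p ∈ S.P, p ∈ S.Q ∨ t⁻¹ * p ∈ S.Q := fun p hp => by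
    by_cases hpQ : p ∈ S.Q
    · exact Or.inl hpQ
    · exact Or.inr ((two_split S.QP S.card2 (S.P.inv_mem htP) hp).2 (by simp [htQ, hpQ]))
  -- the element of odd order inverted by `t`
  set w := t * (S.x * t * S.x⁻¹) with hw
  have hwH : w ∈ S.H := S.H.mul_mem htH (S.H.mul_mem (S.H.mul_mem S.xH htH) (S.H.inv_mem S.xH))
  obtain ⟨a, l, hl, hal⟩ := Nat.exists_eq_two_pow_mul_odd (orderOf_pos w).ne'
  set z := w ^ (2 ^ a) with hz
  have hzord : orderOf z = l := by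
    rw [hz, orderOf_pow' w (by positivity), hal, Nat.gcd_eq_right (Dvd.intro l rfl),
      Nat.mul_div_cancel_left _ (by positivity)]
  have hzodd : Odd (orderOf z) := hzord ▸ hl
  have hzH : z ∈ S.H := S.H.pow_mem hwH _
  have hwinv : t * w * t⁻¹ = w⁻¹ := by
    calc t * w * t⁻¹ = t * t * (S.x * t * S.x⁻¹) * t⁻¹ := by rw [hw]; group
      _ = S.x * t⁻¹ * S.x⁻¹ * t⁻¹ := by rw [htt, htinv]; group
      _ = w⁻¹ := by rw [hw]; group
  have htz : t * z * t⁻¹ = z⁻¹ := by rw [hz, ← conj_pow, hwinv, inv_pow]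
  have htzj : ∀ j : ℤ, t * z ^ j = z ^ (-j) * t := by
    intro j
    have h : t * z ^ j * t⁻¹ = z ^ (-j) := by rw [← conj_zpow, htz, inv_zpow, zpow_neg]
    rw [← h]; group
  have hzjH : ∀ j : ℤ, z ^ j ∈ S.H := fun j => S.H.zpow_mem hzH j
  have hQz : ∀ j : ℤ, ∀ q ∈ S.Q, z ^ j * q * (z ^ j)⁻¹ ∈ S.Q := fun j q hq =>
    cj_mem_of (S.QH _ (hzjH j)) hq
  let R0 : Subgroup G :=
    { carrier := {g | ∃ q ∈ S.Q, ∃ j : ℤ, g = q * z ^ j}
      mul_mem' := by
        rintro _ _ ⟨q, hq, j, rfl⟩ ⟨q', hq', k, rfl⟩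
        refine ⟨q * (z ^ j * q' * (z ^ j)⁻¹), S.Q.mul_mem hq (hQz j q' hq'), j + k, ?_⟩
        rw [zpow_add]; group
      one_mem' := ⟨1, S.Q.one_mem, 0, by simp⟩
      inv_mem' := by
        rintro _ ⟨q, hq, j, rfl⟩
        refine ⟨z ^ (-j) * q⁻¹ * (z ^ (-j))⁻¹, hQz _ _ (S.Q.inv_mem hq), -j, ?_⟩
        group }
  have hQR : ∀ q ∈ S.Q, q ∈ R0 := fun q hq => ⟨q, hq, 0, by simp⟩
  have hzR : z ∈ R0 := ⟨1, S.Q.one_mem, 1, by simp⟩
  have hxR : S.x ∈ R0 := by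
    have ha := S.flip t htP htQ
    set q₁ := S.x⁻¹ * (S.x * (t * S.x * t⁻¹)) * S.x with hq1
    have hq1Q : q₁ ∈ S.Q := mem_cj.1 (S.xQ.symm ▸ ha)
    have e : S.x * S.x = w⁻¹ * q₁ := by
      calc S.x * S.x = S.x * (t * t)⁻¹ * S.x := by rw [htt]; group
        _ = _ := by rw [hw, hq1]; group
    have e2 : S.x * S.x = (w⁻¹ * q₁ * w) * w⁻¹ := by rw [e]; group
    have hq2 : w⁻¹ * q₁ * w ∈ S.Q := mem_cj.1 ((S.QH w hwH).symm ▸ hq1Q)
    obtain ⟨b, hb, he⟩ := pow_of_normal (g := w⁻¹) (S.QH _ (S.H.inv_mem hwH)) hq2 (2 ^ a)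
    refine odd_mem R0 S.xodd (k := a + 1) ?_
    rw [pow_succ', pow_mul, pow_two, e2, he, inv_pow]
    exact R0.mul_mem (hQR b hb) (R0.inv_mem hzR)
  have htR0 : t ∉ R0 := by
    rintro ⟨q, hq, j, he⟩
    have hzP : z ^ j ∈ S.P := by
      have : z ^ j = q⁻¹ * t := by rw [he]; group
      rw [this]; exact S.P.mul_mem (S.P.inv_mem (S.QP hq)) htP
    have hzo : Odd (orderOf (z ^ j)) := by
      refine Odd.of_dvd_nat hzodd ?_
      exact (Subgroup.orderOf_dvd_natCard _ (Subgroup.zpow_mem_zpowers z j)).trans (dvd_of_eq (Nat.card_zpowers z))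
    rw [S.odd_P hzo hzP, mul_one] at he
    exact htQ (he ▸ hq)
  -- normal form
  have hform : ∀ h ∈ S.H, ∃ q ∈ S.Q, ∃ j : ℤ, h = q * z ^ j ∨ h = q * z ^ j * t := by
    intro h hh
    obtain ⟨i, p, hp, rfl⟩ := S.dec h hh
    rcases hPsplit p hp with hpQ | hpQ
    · obtain ⟨q, hq, j, he⟩ := R0.mul_mem (R0.pow_mem hxR i) (hQR p hpQ)
      exact ⟨q, hq, j, Or.inl he⟩
    · have hq' : t * (t⁻¹ * p) * t⁻¹ ∈ S.Q := cj_mem_of (S.pQ t htP) hpQ
      obtain ⟨q, hq, j, he⟩ := R0.mul_mem (R0.pow_mem hxR i) (hQR _ hq')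
      refine ⟨q, hq, j, Or.inr ?_⟩
      rw [← he]; group
  have hQab : ∀ a ∈ S.Q, ∀ b ∈ S.Q, a * b = b * a := fun a ha b hb => hQe.comm ha hb
  have hzmove : ¬ ∀ q ∈ S.Q, z * q * z⁻¹ = q := by
    intro hall
    obtain ⟨q₀, hq₀, hne⟩ := hx
    obtain ⟨b, hb, j, he⟩ := hxR
    apply hne
    have hzc : Commute z q₀ := by
      show z * q₀ = q₀ * z
      calc z * q₀ = z * q₀ * z⁻¹ * z := by group
        _ = q₀ * z := by rw [hall q₀ hq₀]
    have h1 : z ^ j * q₀ = q₀ * z ^ j := hzc.zpow_left j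
    rw [he, mul_assoc, h1, ← mul_assoc, hQab b hb q₀ hq₀, mul_assoc]
  have hMz : ∀ m ∈ M, z * m * z⁻¹ = m := fun m hm => by rw [hMH z hzH m hm]; group
  have hfix : ∀ q ∈ S.Q, z * q * z⁻¹ = q → q ∈ M := by
    intro q₀ hq₀ hq₀z
    by_contra hq₀M
    apply hzmove
    set F := S.Q ⊓ Subgroup.centralizer ({z} : Set G) with hF
    have hMF : M ≤ F := fun m hm =>
      ⟨hMQ hm, Subgroup.mem_centralizer_singleton_iff.2 (hMH z hzH m hm).symm⟩
    have hFfix : ∀ f ∈ F, z * f * z⁻¹ = f := fun f hf => by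
      rw [← Subgroup.mem_centralizer_singleton_iff.1 hf.2]; group
    have hq₀F : q₀ ∈ F := ⟨hq₀, Subgroup.mem_centralizer_singleton_iff.2 (by
      calc q₀ * z = z * q₀ * z⁻¹ * z := by rw [hq₀z]
        _ = z * q₀ := by group)⟩
    obtain ⟨k, hk⟩ : ∃ k, Nat.card F = Nat.card M * k := Subgroup.card_dvd_of_le hMF
    obtain ⟨k', hk'⟩ : ∃ k', Nat.card S.Q = Nat.card F * k' := Subgroup.card_dvd_of_le inf_le_left
    have hk2 : 2 ≤ k := by
      have hnle : ¬ Nat.card F ≤ Nat.card M := fun h =>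
        hq₀M ((Subgroup.eq_of_le_of_card_ge hMF h).ge hq₀F)
      rw [hk] at hnle
      rcases k with _ | _ | k
      · rw [mul_zero] at hnle; omega
      · rw [zero_add, mul_one] at hnle; omega
      · omega
    have hkk : k * k' = 4 := by
      have hpos : 0 < Nat.card M := Nat.card_pos
      rw [hQM, hk, mul_assoc, mul_comm 4] at hk'
      exact (Nat.eq_of_mul_eq_mul_left hpos hk').symm
    intro q hq
    by_cases hqF : q ∈ F
    · exact hFfix q hqF
    have hk'2 : k' = 2 := by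
      have hk'4 : k' ≤ 2 := by nlinarith
      rcases k' with _ | _ | k'
      · omega
      · exfalso
        rw [zero_add, mul_one] at hk'
        exact hqF ((Subgroup.eq_of_le_of_card_ge (inf_le_left : F ≤ S.Q) hk'.le).ge hq)
      · omega
    have hQF : Nat.card S.Q = 2 * Nat.card F := by rw [hk', hk'2, mul_comm]
    have hzq : z * q * z⁻¹ ∈ S.Q := cj_mem_of (S.QH z hzH) hq
    have hzqF : z * q * z⁻¹ ∉ F := fun h => hqF (by
      have h2 := hFfix _ h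
      have e : z * q * z⁻¹ = q := by
        calc z * q * z⁻¹ = z⁻¹ * (z * (z * q * z⁻¹) * z⁻¹) * z := by group
          _ = q := by rw [h2]; group
      rwa [e] at h)
    have hprod : q⁻¹ * (z * q * z⁻¹) ∈ F :=
      (two_split inf_le_left hQF (S.Q.inv_mem hq) hzq).2
        (by rw [Subgroup.inv_mem_iff]; exact iff_of_false hqF hzqF)
    exact odd_shift hzodd (m := q⁻¹ * (z * q * z⁻¹)) (by group) (hFfix _ hprod) (hQe _ hprod.1)
  -- the complement `V` of `M` in `Q`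
  let δ : S.Q →* S.Q :=
    { toFun := fun q => q * ⟨z * (q : G) * z⁻¹, cj_mem_of (S.QH z hzH) q.2⟩
      map_one' := by ext; simp
      map_mul' := fun q r => by
        ext
        simp only [Subgroup.coe_mul]
        calc (q : G) * r * (z * (q * r) * z⁻¹)
            = (q : G) * ((r : G) * (z * q * z⁻¹)) * (z * r * z⁻¹) := by group
          _ = q * (z * q * z⁻¹) * (r * (z * r * z⁻¹)) := by
            rw [hQab _ r.2 _ (cj_mem_of (S.QH z hzH) q.2)]; group }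
  set V := δ.range.map S.Q.subtype with hV
  have hVQ : V ≤ S.Q := Subgroup.map_subtype_le _
  have hVmem : ∀ v, v ∈ V ↔ ∃ q ∈ S.Q, v = q * (z * q * z⁻¹) := by
    intro v
    rw [hV, Subgroup.mem_map]
    constructor
    · rintro ⟨b, ⟨q, rfl⟩, rfl⟩; exact ⟨q, q.2, rfl⟩
    · rintro ⟨q, hq, rfl⟩; exact ⟨δ ⟨q, hq⟩, ⟨⟨q, hq⟩, rfl⟩, rfl⟩
  have hVM : ∀ v ∈ V, v ∈ M → v = 1 := by
    intro v hv hvM
    obtain ⟨q, hq, rfl⟩ := (hVmem v).1 hv
    have hqq := hQe q hq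
    have hzq : z * q * z⁻¹ = q := by
      refine odd_shift hzodd (m := q * (z * q * z⁻¹)) ?_ (hMz _ hvM) (hQe _ (hMQ hvM))
      rw [← mul_assoc, hqq, one_mul]
    rw [hzq, hqq]
  have hVcard : Nat.card V = 4 := by
    have e : Nat.card V = Nat.card δ.range :=
      Nat.card_congr (Subgroup.equivMapOfInjective _ _ (Subgroup.subtype_injective _)).toEquiv.symm
    have hker : δ.ker = M.subgroupOf S.Q := by
      ext q
      rw [MonoidHom.mem_ker, Subgroup.mem_subgroupOf]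
      constructor
      · intro h
        have h1 : (q : G) * (z * q * z⁻¹) = 1 := congrArg Subtype.val h
        exact hfix q q.2 ((inv_eq_of_mul_eq_one_right h1).symm.trans (hQe.inv q.2))
      · intro h
        ext
        show (q : G) * (z * q * z⁻¹) = 1
        rw [hMz _ h, hQe q q.2]
    have h := δ.ker.card_eq_card_quotient_mul_card_subgroup
    rw [Nat.card_congr (QuotientGroup.quotientKerEquivRange δ).toEquiv, hker,
      Nat.card_congr (Subgroup.subgroupOfEquivOfLe hMQ).toEquiv, hQM, ← e] at h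
    exact (Nat.eq_of_mul_eq_mul_right Nat.card_pos h).symm
  have hVMc : ∀ v ∈ V, ∀ m ∈ M, v * m = m * v := fun v hv m hm => hQab v (hVQ hv) m (hMQ hm)
  have hVsup : V ⊔ M = S.Q := by
    refine Subgroup.eq_of_le_of_card_ge (sup_le hVQ hMQ) ?_
    have h := card_sup_comm V M hVMc
    rw [show V ⊓ M = ⊥ from eq_bot_iff.2 fun v hv => Subgroup.mem_bot.2 (hVM v hv.1 hv.2),
      Subgroup.card_bot, mul_one, hVcard, ← hQM] at h
    exact h.ge
  have hVz : ∀ v ∈ V, z * v * z⁻¹ ∈ V := by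
    intro v hv
    obtain ⟨q, hq, rfl⟩ := (hVmem v).1 hv
    exact (hVmem _).2 ⟨z * q * z⁻¹, cj_mem_of (S.QH z hzH) hq, by group⟩
  have hVt : ∀ v ∈ V, t * v * t⁻¹ ∈ V := by
    intro v hv
    obtain ⟨q, hq, rfl⟩ := (hVmem v).1 hv
    have hq' : t * q * t⁻¹ ∈ S.Q := cj_mem_of (S.pQ t htP) hq
    have hq'' : z⁻¹ * (t * q * t⁻¹) * z ∈ S.Q := mem_cj.1 ((S.QH z hzH).symm ▸ hq')
    refine (hVmem _).2 ⟨_, hq'', ?_⟩
    calc t * (q * (z * q * z⁻¹)) * t⁻¹
        = (t * q * t⁻¹) * ((t * z * t⁻¹) * (t * q * t⁻¹) * (t * z * t⁻¹)⁻¹) := by group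
      _ = (t * q * t⁻¹) * (z⁻¹ * (t * q * t⁻¹) * z) := by rw [htz]; group
      _ = _ := by rw [hQab _ hq' _ hq'']; group
  -- the cube of `z` centralises `Q`
  have hz3 : ∀ q ∈ S.Q, z ^ 3 * q * (z ^ 3)⁻¹ = q := by
    have hvfix : ∀ v ∈ V, z ^ 3 * v * (z ^ 3)⁻¹ = v := by
      intro v hv
      by_cases hv1 : v = 1
      · simp [hv1]
      set v1 := z * v * z⁻¹ with hv1def
      set v2 := z * v1 * z⁻¹ with hv2def
      have hv1V := hVz v hv
      have hv2V := hVz v1 hv1V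
      have nofix : ∀ u ∈ V, u ≠ 1 → z * u * z⁻¹ ≠ u := fun u hu hu1 h =>
        hu1 (hVM u hu (hfix u (hVQ hu) h))
      have hv11 : v1 ≠ 1 := fun h => hv1 (by
        calc v = z⁻¹ * v1 * z := by rw [hv1def]; group
          _ = 1 := by rw [h]; group)
      have hne1 : v1 ≠ v := nofix v hv hv1
      have hne21 : v2 ≠ v1 := nofix v1 hv1V hv11
      have hv21 : v2 ≠ 1 := fun h => hv11 (by
        calc v1 = z⁻¹ * v2 * z := by rw [hv2def]; group
          _ = 1 := by rw [h]; group)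
      have hne20 : v2 ≠ v := by
        intro h
        have h2 : z * z ∈ Subgroup.centralizer ({v} : Set G) := by
          rw [Subgroup.mem_centralizer_singleton_iff]
          calc z * z * v = v2 * (z * z) := by rw [hv2def, hv1def]; group
            _ = v * (z * z) := by rw [h]
        have h3 := Subgroup.mem_centralizer_singleton_iff.1 (odd_sq_mem _ hzodd h2)
        exact hne1 (by rw [hv1def, h3]; group)
      have hv2eq : v2 = v * v1 := by
        by_contra hne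
        haveI := Fintype.ofFinite V
        have hp : v * v1 ∈ V := V.mul_mem hv hv1V
        have hp1 : v * v1 ≠ 1 := fun h => hne1
          ((inv_eq_of_mul_eq_one_right h).symm.trans (hQe.inv (hVQ hv)))
        have hp0 : v * v1 ≠ v := fun h => hv11 (by simpa using h)
        have hpv : v * v1 ≠ v1 := fun h => hv1 (by simpa using h)
        have h5 : ({1, ⟨v, hv⟩, ⟨v1, hv1V⟩, ⟨v2, hv2V⟩, ⟨v * v1, hp⟩} : Finset V).card = 5 := by
          simp [Subtype.ext_iff, Ne.symm hv1, Ne.symm hv11, Ne.symm hv21, Ne.symm hp1, Ne.symm hne1,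
            Ne.symm hne20, Ne.symm hne21, Ne.symm hp0, Ne.symm hpv, hne]
        have := Finset.card_le_univ ({1, ⟨v, hv⟩, ⟨v1, hv1V⟩, ⟨v2, hv2V⟩, ⟨v * v1, hp⟩} : Finset V)
        rw [h5, ← Nat.card_eq_fintype_card, hVcard] at this
        omega
      calc z ^ 3 * v * (z ^ 3)⁻¹ = z * v2 * z⁻¹ := by
            rw [hv2def, hv1def, pow_succ, pow_two]; group
        _ = z * (v * v1) * z⁻¹ := by rw [hv2eq]
        _ = v1 * v2 := by rw [hv2def, hv1def]; group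
        _ = v1 * (v1 * v) := by rw [hv2eq, hQab v (hVQ hv) v1 (hVQ hv1V)]
        _ = v := by rw [← mul_assoc, hQe v1 (hVQ hv1V), one_mul]
    intro q hq
    rw [← hVsup] at hq
    obtain ⟨v, hv, m, hm, rfl⟩ := mem_sup_comm hVMc hq
    calc z ^ 3 * (v * m) * (z ^ 3)⁻¹ = (z ^ 3 * v * (z ^ 3)⁻¹) * (z ^ 3 * m * (z ^ 3)⁻¹) := by group
      _ = v * m := by rw [hvfix v hv, hMH _ (S.H.pow_mem hzH 3) m hm]; group
  let Cz : Subgroup G := Subgroup.centralizer (S.Q : Set G)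
  have hmemC : ∀ g, g ∈ Cz ↔ ∀ q ∈ S.Q, g * q * g⁻¹ = q := by
    intro g
    rw [Subgroup.mem_centralizer_iff]
    refine forall₂_congr fun q _ => ?_
    rw [mul_inv_eq_iff_eq_mul]; exact eq_comm
  have hzC : z ∉ Cz := fun h => hzmove ((hmemC z).1 h)
  have hz3C : z ^ 3 ∈ Cz := (hmemC _).2 hz3
  have h3ord : 3 ∣ l := by
    by_contra h3
    have hc : (3 : ℕ).Coprime (orderOf z) := by
      rw [hzord]; exact (Nat.Prime.coprime_iff_not_dvd Nat.prime_three).2 h3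
    obtain ⟨k, hk⟩ := exists_pow_eq_self_of_coprime hc
    exact hzC (hk ▸ Cz.pow_mem hz3C k)
  have hzj3 : ∀ j : ℤ, z ^ j ∈ Cz → (3 : ℤ) ∣ j := by
    intro j hj
    by_contra h3
    have hg : Int.gcd j 3 = 1 := by
      have : (Int.gcd j 3) ∣ 3 := by
        have := Int.gcd_dvd_right j 3
        exact_mod_cast this
      rcases (Nat.dvd_prime Nat.prime_three).1 this with h | h
      · exact h
      · exfalso; apply h3; have := Int.gcd_dvd_left j 3; rwa [h] at this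
    have hb := Int.gcd_eq_gcd_ab j 3
    rw [hg] at hb
    apply hzC
    have : z = (z ^ j) ^ (Int.gcdA j 3) * (z ^ 3) ^ (Int.gcdB j 3) := by
      rw [← zpow_natCast z 3, ← zpow_mul, ← zpow_mul, ← zpow_add]
      norm_num
      rw [show j * Int.gcdA j 3 + 3 * Int.gcdB j 3 = 1 by exact_mod_cast hb.symm, zpow_one]
    rw [this]
    exact Cz.mul_mem (Cz.zpow_mem hj _) (Cz.zpow_mem hz3C _)
  have hQzj : ∀ j : ℤ, z ^ j ∈ S.Q → z ^ j = 1 := fun j h => by
    refine S.odd_P (Odd.of_dvd_nat hzodd ?_) (S.QP h)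
    exact (Subgroup.orderOf_dvd_natCard _ (Subgroup.zpow_mem_zpowers z j)).trans (dvd_of_eq (Nat.card_zpowers z))
  have htC : t ∉ Cz := by
    intro h
    have hc := Subgroup.mem_centralizer_iff.1 h
    refine htQ (S.central_mem hx htP fun p hp => ?_)
    rcases hPsplit p hp with hp' | hp'
    · exact hc p hp'
    · calc p * t = t * ((t⁻¹ * p) * t) := by group
        _ = t * (t * (t⁻¹ * p)) := by rw [hc _ hp']
        _ = t * p := by group
  -- the subgroup `R`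
  let R : Subgroup G :=
    { carrier := {g | ∃ j : ℤ, g = z ^ j ∨ g = z ^ j * t}
      mul_mem' := by
        rintro _ _ ⟨j, rfl | rfl⟩ ⟨k, rfl | rfl⟩
        · exact ⟨j + k, Or.inl (zpow_add z j k).symm⟩
        · exact ⟨j + k, Or.inr (by rw [zpow_add, mul_assoc])⟩
        · exact ⟨j - k, Or.inr (by rw [mul_assoc, htzj, ← mul_assoc, ← zpow_add, sub_eq_add_neg])⟩
        · exact ⟨j - k, Or.inl (by
            rw [mul_assoc, ← mul_assoc t, htzj, mul_assoc, htt, mul_one, ← zpow_add, sub_eq_add_neg])⟩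
      one_mem' := ⟨0, Or.inl (zpow_zero z).symm⟩
      inv_mem' := by
        rintro _ ⟨j, rfl | rfl⟩
        · exact ⟨-j, Or.inl (zpow_neg z j).symm⟩
        · exact ⟨j, Or.inr (by rw [mul_inv_rev, htinv, ← zpow_neg, htzj, neg_neg])⟩ }
  have hRH : R ≤ S.H := by
    rintro _ ⟨j, rfl | rfl⟩
    · exact hzjH j
    · exact S.H.mul_mem (hzjH j) htH
  have hRQ : ∀ r ∈ R, r ∈ S.Q → r = 1 := by
    rintro _ ⟨j, rfl | rfl⟩ h
    · exact hQzj j h
    · exfalso
      apply htR0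
      have : t = z ^ (-j) * (z ^ j * t) := by group
      rw [this]
      exact R0.mul_mem ⟨1, S.Q.one_mem, -j, by simp⟩ (hQR _ h)
  have hRV : ∀ r ∈ R, ∀ v ∈ V, r * v * r⁻¹ ∈ V := by
    have hzn : z ∈ nz V := by
      refine (Subgroup.eq_of_le_of_card_ge (fun v hv => ?_) (by rw [cj_card]))
      obtain ⟨u, hu, rfl⟩ : ∃ u ∈ V, v = z * u * z⁻¹ := ⟨_, mem_cj.1 hv, by group⟩
      exact hVz u hu
    have htn : t ∈ nz V := by
      refine (Subgroup.eq_of_le_of_card_ge (fun v hv => ?_) (by rw [cj_card]))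
      obtain ⟨u, hu, rfl⟩ : ∃ u ∈ V, v = t * u * t⁻¹ := ⟨_, mem_cj.1 hv, by group⟩
      exact hVt u hu
    rintro _ ⟨j, rfl | rfl⟩ v hv
    · exact cj_mem_of ((nz V).zpow_mem hzn j) hv
    · exact cj_mem_of ((nz V).mul_mem ((nz V).zpow_mem hzn j) htn) hv
  let K : Subgroup G :=
    { carrier := {g | ∃ m ∈ M, ∃ r ∈ R, g = m * r}
      mul_mem' := by
        rintro _ _ ⟨m, hm, r, hr, rfl⟩ ⟨m', hm', r', hr', rfl⟩
        refine ⟨m * m', M.mul_mem hm hm', r * r', R.mul_mem hr hr', ?_⟩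
        calc m * r * (m' * r') = m * (r * m') * r' := by group
          _ = m * m' * (r * r') := by rw [hMH r (hRH hr) m' hm']; group
      one_mem' := ⟨1, M.one_mem, 1, R.one_mem, (one_mul 1).symm⟩
      inv_mem' := by
        rintro _ ⟨m, hm, r, hr, rfl⟩
        exact ⟨m⁻¹, M.inv_mem hm, r⁻¹, R.inv_mem hr, by
          rw [mul_inv_rev, hMH _ (S.H.inv_mem (hRH hr)) _ (M.inv_mem hm)]⟩ }
  let L : Subgroup G :=
    { carrier := {g | ∃ v ∈ V, ∃ r ∈ R, g = v * r}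
      mul_mem' := by
        rintro _ _ ⟨v, hv, r, hr, rfl⟩ ⟨v', hv', r', hr', rfl⟩
        exact ⟨v * (r * v' * r⁻¹), V.mul_mem hv (hRV r hr v' hv'), r * r', R.mul_mem hr hr', by group⟩
      one_mem' := ⟨1, V.one_mem, 1, R.one_mem, (one_mul 1).symm⟩
      inv_mem' := by
        rintro _ ⟨v, hv, r, hr, rfl⟩
        exact ⟨r⁻¹ * v⁻¹ * r⁻¹⁻¹, hRV _ (R.inv_mem hr) _ (V.inv_mem hv), r⁻¹, R.inv_mem hr, by group⟩ }
  have hdecomp : ∀ h ∈ S.H, ∃ v ∈ V, ∃ m ∈ M, ∃ r ∈ R, h = v * m * r := by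
    intro h hh
    obtain ⟨q, hq, j, he⟩ := hform h hh
    rw [← hVsup] at hq
    obtain ⟨v, hv, m, hm, rfl⟩ := mem_sup_comm hVMc hq
    rcases he with rfl | rfl
    · exact ⟨v, hv, m, hm, z ^ j, ⟨j, Or.inl rfl⟩, rfl⟩
    · exact ⟨v, hv, m, hm, z ^ j * t, ⟨j, Or.inr rfl⟩, by group⟩
  -- orders
  have hKH : K ≤ S.H := by
    rintro _ ⟨m, hm, r, hr, rfl⟩; exact S.H.mul_mem (S.PH (S.QP (hMQ hm))) (hRH hr)
  have hLH : L ≤ S.H := by
    rintro _ ⟨v, hv, r, hr, rfl⟩; exact S.H.mul_mem (S.PH (S.QP (hVQ hv))) (hRH hr)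
  have prod_card : ∀ (A : Subgroup G) (B : Subgroup G), A ≤ S.Q → B ≤ S.H →
      (∀ g, g ∈ B ↔ ∃ a ∈ A, ∃ r ∈ R, g = a * r) → Nat.card B = Nat.card A * Nat.card R := by
    intro A B hA _ hB
    rw [← Nat.card_prod]
    refine (Nat.card_eq_of_bijective (fun p : A × R => (⟨p.1 * p.2, (hB _).2 ⟨_, p.1.2, _, p.2.2, rfl⟩⟩ : B))
      ⟨?_, ?_⟩).symm
    · rintro ⟨a, r⟩ ⟨a', r'⟩ h
      have h' : (a : G) * r = a' * r' := congrArg Subtype.val h
      have h1 : (r' : G) * (r : G)⁻¹ = 1 := by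
        refine hRQ _ (R.mul_mem r'.2 (R.inv_mem r.2)) ?_
        have : (r' : G) * (r : G)⁻¹ = (a' : G)⁻¹ * a := by
          calc (r' : G) * (r : G)⁻¹ = (a' : G)⁻¹ * (a' * r') * (r : G)⁻¹ := by group
            _ = _ := by rw [← h']; group
        rw [this]; exact S.Q.mul_mem (S.Q.inv_mem (hA a'.2)) (hA a.2)
      have hr : r = r' := Subtype.ext (mul_inv_eq_one.1 h1).symm
      subst hr
      exact Prod.ext (Subtype.ext (mul_right_cancel h')) rfl
    · rintro ⟨g, hg⟩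
      obtain ⟨a, ha, r, hr, rfl⟩ := (hB g).1 hg
      exact ⟨(⟨a, ha⟩, ⟨r, hr⟩), rfl⟩
  have hKc : Nat.card K = Nat.card M * Nat.card R := prod_card M K hMQ hKH (fun g => Iff.rfl)
  have hLc : Nat.card L = Nat.card V * Nat.card R := prod_card V L hVQ hLH (fun g => Iff.rfl)
  have hHc : Nat.card S.H = Nat.card S.Q * Nat.card R := by
    refine prod_card S.Q S.H le_rfl le_rfl fun g => ⟨fun hg => ?_, ?_⟩
    · obtain ⟨v, hv, m, hm, r, hr, rfl⟩ := hdecomp g hg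
      exact ⟨v * m, S.Q.mul_mem (hVQ hv) (hMQ hm), r, hr, rfl⟩
    · rintro ⟨a, ha, r, hr, rfl⟩; exact S.H.mul_mem (S.PH (S.QP ha)) (hRH hr)
  have hRc : Nat.card R = 2 * l := by
    have hle : Subgroup.zpowers z ≤ R := by
      rintro g hg
      obtain ⟨j, rfl⟩ := Subgroup.mem_zpowers_iff.1 hg
      exact ⟨j, Or.inl rfl⟩
    refine le_antisymm ?_ ?_
    · rw [← hzord, ← Nat.card_zpowers]
      refine card_le_two t fun g hg => ?_
      rcases hg with ⟨j, rfl | rfl⟩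
      · exact Or.inl (Subgroup.zpow_mem_zpowers z j)
      · refine Or.inr ?_
        rw [htinv, ← mul_assoc, htzj, mul_assoc, htt, mul_one]
        exact Subgroup.zpow_mem_zpowers z _
    · obtain ⟨k, hk⟩ : ∃ k, Nat.card R = Nat.card (Subgroup.zpowers z) * k := Subgroup.card_dvd_of_le hle
      have hnle : ¬ Nat.card R ≤ Nat.card (Subgroup.zpowers z) := by
        intro h
        have := (Subgroup.eq_of_le_of_card_ge hle h).ge (show t ∈ R from ⟨0, Or.inr (by simp)⟩)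
        obtain ⟨j, hj⟩ := Subgroup.mem_zpowers_iff.1 this
        exact htR0 ⟨1, S.Q.one_mem, j, by rw [one_mul, hj]⟩
      rw [hk] at hnle ⊢
      rw [Nat.card_zpowers, hzord] at hnle ⊢
      have : 2 ≤ k := by
        rcases k with _ | _ | k
        · rw [mul_zero] at hnle; omega
        · rw [zero_add, mul_one] at hnle; omega
        · omega
      rw [mul_comm]; exact Nat.mul_le_mul_left _ this
  -- the odd core
  set O := (Subgroup.zpowers (z ^ 3)).subgroupOf S.H with hO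
  have hOle : Subgroup.zpowers (z ^ 3) ≤ S.H := Subgroup.zpowers_le.2 (S.H.pow_mem hzH 3)
  have hOfix : ∀ g, g * z ^ 3 * g⁻¹ ∈ Subgroup.zpowers (z ^ 3) → g ∈ nz (Subgroup.zpowers (z ^ 3)) := by
    intro g hg
    refine Subgroup.eq_of_le_of_card_ge (fun a ha => ?_) (by rw [cj_card])
    obtain ⟨j, hj⟩ := Subgroup.mem_zpowers_iff.1 (mem_cj.1 ha)
    have : a = (g * z ^ 3 * g⁻¹) ^ j := by rw [conj_zpow, hj]; group
    rw [this]; exact Subgroup.zpow_mem _ hg j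
  have hOnorm : ∀ h ∈ S.H, h ∈ nz (Subgroup.zpowers (z ^ 3)) := by
    intro h hh
    have hzn : z ∈ nz (Subgroup.zpowers (z ^ 3)) :=
      hOfix z (by rw [show z * z ^ 3 * z⁻¹ = z ^ 3 by group]; exact Subgroup.mem_zpowers _)
    have htn : t ∈ nz (Subgroup.zpowers (z ^ 3)) :=
      hOfix t (by rw [← conj_pow, htz, inv_pow]; exact Subgroup.inv_mem _ (Subgroup.mem_zpowers _))
    have hQn : ∀ q ∈ S.Q, q ∈ nz (Subgroup.zpowers (z ^ 3)) := fun q hq => by
      refine hOfix q ?_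
      have h3 := hz3 q hq
      have : q * z ^ 3 * q⁻¹ = z ^ 3 := by
        calc q * z ^ 3 * q⁻¹ = (z ^ 3 * q * (z ^ 3)⁻¹) * z ^ 3 * q⁻¹ := by rw [h3]
          _ = z ^ 3 := by group
      rw [this]; exact Subgroup.mem_zpowers _
    obtain ⟨q, hq, j, rfl | rfl⟩ := hform h hh
    · exact (nz _).mul_mem (hQn q hq) ((nz _).zpow_mem hzn j)
    · exact (nz _).mul_mem ((nz _).mul_mem (hQn q hq) ((nz _).zpow_mem hzn j)) htn
  haveI hOn : O.Normal := ⟨fun a ha g => by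
    rw [hO, Subgroup.mem_subgroupOf] at ha ⊢
    simpa using cj_mem_of (hOnorm _ g.2) ha⟩
  have hOc : Nat.card O * 3 = l := by
    rw [hO, Nat.card_congr (Subgroup.subgroupOfEquivOfLe hOle).toEquiv, Nat.card_zpowers,
      orderOf_pow' z (by norm_num), hzord, Nat.gcd_eq_right h3ord, Nat.div_mul_cancel h3ord]
  have hOodd : Odd (Nat.card O) := Odd.of_dvd_nat hl ⟨3, hOc.symm⟩
  have hcore : Cfsg.oddCore ↥S.H = O := by
    refine le_antisymm (fun g hg => ?_) (Cfsg.Agent.Lib.Cores.le_oddCore hOn hOodd)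
    have hodd : ∀ g ∈ Cfsg.oddCore ↥S.H, Odd (orderOf g) := fun g hg =>
      Odd.of_dvd_nat (Cfsg.Agent.Lib.Cores.odd_card_oddCore ↥S.H) (Subgroup.orderOf_dvd_natCard _ hg)
    haveI hcn : (Cfsg.oddCore ↥S.H).Normal := (Cfsg.Agent.Lib.Cores.pPrimeCore_mem 2 ↥S.H).1
    have hgC : (g : G) ∈ Cz := by
      rw [hmemC]
      intro q hq
      set qH : ↥S.H := ⟨q, S.PH (S.QP hq)⟩
      have hc : g * (qH * g⁻¹ * qH⁻¹) ∈ Cfsg.oddCore ↥S.H :=
        Subgroup.mul_mem _ hg (hcn.conj_mem _ (Subgroup.inv_mem _ hg) qH)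
      have ho := hodd _ hc
      rw [← Subgroup.orderOf_coe] at ho
      simp only [Subgroup.coe_mul, Subgroup.coe_inv, qH] at ho
      have hcQ : (g : G) * (q * (g : G)⁻¹ * q⁻¹) ∈ S.Q := by
        rw [show (g : G) * (q * (g : G)⁻¹ * q⁻¹) = ((g : G) * q * (g : G)⁻¹) * q⁻¹ by group]
        exact S.Q.mul_mem (cj_mem_of (S.QH _ g.2) hq) (S.Q.inv_mem hq)
      have h1 := S.odd_P ho (S.QP hcQ)
      calc (g : G) * q * (g : G)⁻¹ = (g : G) * (q * (g : G)⁻¹ * q⁻¹) * q := by group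
        _ = q := by rw [h1, one_mul]
    have hgo : Odd (orderOf (g : G)) := by rw [Subgroup.orderOf_coe]; exact hodd g hg
    obtain ⟨q, hq, j, he | he⟩ := hform _ g.2
    · have hqC : q ∈ Cz := (hmemC q).2 fun b hb => by rw [hQab q hq b hb]; group
      have hzC' : z ^ j ∈ Cz := by
        have : z ^ j = q⁻¹ * g := by rw [he]; group
        rw [this]; exact Cz.mul_mem (Cz.inv_mem hqC) hgC
      obtain ⟨k, rfl⟩ := hzj3 j hzC'
      have hcom : Commute q (z ^ (3 * k)) := Subgroup.mem_centralizer_iff.1 hzC' q hq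
      have h1 : q ^ orderOf (g : G) * (z ^ (3 * k)) ^ orderOf (g : G) = 1 := by
        rw [← hcom.mul_pow, ← he, pow_orderOf_eq_one]
      obtain ⟨r, hr⟩ := hgo
      rw [hr, pow_succ q, pow_mul q, pow_two, hQe q hq, one_pow, one_mul] at h1
      have hqz : q = ((z ^ (3 * k)) ^ (2 * r + 1))⁻¹ := eq_inv_of_mul_eq_one_left h1
      have hq1 : q = 1 := by
        rw [hqz]
        rw [hqz, ← zpow_natCast (z ^ (3 * k)), ← zpow_mul, ← zpow_neg] at hq
        rw [← zpow_natCast (z ^ (3 * k)), ← zpow_mul, ← zpow_neg]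
        exact hQzj _ hq
      rw [hO, Subgroup.mem_subgroupOf, he, hq1, one_mul, zpow_mul]
      exact Subgroup.mem_zpowers_iff.2 ⟨k, by rw [← zpow_natCast]; rfl⟩
    · exfalso
      have hqC : q ∈ Cz := (hmemC q).2 fun b hb => by rw [hQab q hq b hb]; group
      have hs : z ^ j * t ∈ Cz := by
        have : z ^ j * t = q⁻¹ * g := by rw [he]; group
        rw [this]; exact Cz.mul_mem (Cz.inv_mem hqC) hgC
      have hzn : z ∈ nz Cz := by
        refine Subgroup.eq_of_le_of_card_ge (fun a ha => ?_) (by rw [cj_card])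
        rw [hmemC]
        intro b hb
        have h := (hmemC _).1 (mem_cj.1 ha) _ (mem_cj.1 ((S.QH z hzH).symm ▸ hb))
        calc a * b * a⁻¹ = z * ((z⁻¹ * a * z) * (z⁻¹ * b * z) * (z⁻¹ * a * z)⁻¹) * z⁻¹ := by group
          _ = b := by rw [h]; group
      have h2 : z * (z ^ j * t) * z⁻¹ * (z ^ j * t)⁻¹ = z ^ (2 : ℤ) := by
        have ht1 : t * z⁻¹ * t⁻¹ = z := by
          rw [← inv_inj, show (t * z⁻¹ * t⁻¹)⁻¹ = t * z * t⁻¹ by group, htz]
        calc z * (z ^ j * t) * z⁻¹ * (z ^ j * t)⁻¹ = z * z ^ j * (t * z⁻¹ * t⁻¹) * (z ^ j)⁻¹ := by group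
          _ = z ^ (2 : ℤ) := by rw [ht1]; group
      have h3 := Cz.mul_mem (cj_mem_of hzn hs) (Cz.inv_mem hs)
      rw [h2] at h3
      have := hzj3 2 h3
      omega
  -- the action on the cosets of `K`
  set KH := K.subgroupOf S.H with hKHdef
  set LH := L.subgroupOf S.H with hLHdef
  have hRpos : 0 < Nat.card R := Nat.card_pos
  have hMpos : 0 < Nat.card M := Nat.card_pos
  have hKi : KH.index = 4 := by
    have h := KH.card_mul_index
    rw [hKHdef, Nat.card_congr (Subgroup.subgroupOfEquivOfLe hKH).toEquiv, hKc, hHc, hQM] at h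
    rw [hKHdef]
    refine Nat.eq_of_mul_eq_mul_left (Nat.mul_pos hMpos hRpos) (h.trans ?_)
    ring
  have hLi : LH.index = Nat.card M := by
    have h := LH.card_mul_index
    rw [hLHdef, Nat.card_congr (Subgroup.subgroupOfEquivOfLe hLH).toEquiv, hLc, hHc, hQM, hVcard] at h
    rw [hLHdef]
    refine Nat.eq_of_mul_eq_mul_left (Nat.mul_pos (by norm_num : 0 < 4) hRpos) (h.trans ?_)
    ring
  haveI hLn : LH.Normal := ⟨fun a ha g => by
    rw [hLHdef, Subgroup.mem_subgroupOf] at ha ⊢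
    obtain ⟨v, hv, m, hm, r, hr, he⟩ := hdecomp g g.2
    simp only [Subgroup.coe_mul, Subgroup.coe_inv, he]
    have hb : (v * r) * (a : G) * (v * r)⁻¹ ∈ L :=
      L.mul_mem (L.mul_mem ⟨v, hv, r, hr, rfl⟩ ha) (L.inv_mem ⟨v, hv, r, hr, rfl⟩)
    have hmv : v * m * r = m * (v * r) := by rw [hVMc v hv m hm, mul_assoc]
    rw [hmv, show m * (v * r) * (a : G) * (m * (v * r))⁻¹ = m * (v * r * a * (v * r)⁻¹) * m⁻¹ by group,
      ← hMH _ (hLH hb) m hm]
    simpa [mul_assoc] using hb⟩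
  let ψ : ↥S.H →* Equiv.Perm (Fin 4) :=
    (Equiv.permCongrHom (Finite.equivFinOfCardEq (α := ↥S.H ⧸ KH) hKi)).toMonoidHom.comp
      (MulAction.toPermHom ↥S.H (↥S.H ⧸ KH))
  have hψ : ψ.ker = KH.normalCore := by
    rw [Subgroup.normalCore_eq_ker]
    ext g
    simp [ψ, MonoidHom.mem_ker]
  have hcoreK : ∀ g : ↥S.H, g ∈ KH.normalCore → ∃ m ∈ M, ∃ k : ℤ, (g : G) = m * (z ^ 3) ^ k := by
    intro g hg
    have hgK : (g : G) ∈ K := Subgroup.normalCore_le KH hg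
    obtain ⟨m, hm, r, hr, he⟩ := hgK
    have hmH : m ∈ S.H := S.PH (S.QP (hMQ hm))
    have hmcore : (⟨m, hmH⟩ : ↥S.H) ∈ KH.normalCore := by
      intro b
      rw [hKHdef, Subgroup.mem_subgroupOf]
      simp only [Subgroup.coe_mul, Subgroup.coe_inv]
      rw [hMH b b.2 m hm, mul_inv_cancel_right]
      exact ⟨m, hm, 1, R.one_mem, (mul_one m).symm⟩
    have hrcore : (⟨r, hRH hr⟩ : ↥S.H) ∈ KH.normalCore := by
      have : (⟨r, hRH hr⟩ : ↥S.H) = (⟨m, hmH⟩ : ↥S.H)⁻¹ * g := by ext; simp [he]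
      rw [this]; exact Subgroup.mul_mem _ (Subgroup.inv_mem _ hmcore) hg
    have key : ∀ s : ↥S.H, s ∈ KH.normalCore → (s : G) ∈ R → ∀ q ∈ S.Q, q * s * q⁻¹ * (s : G)⁻¹ ∈ M := by
      intro s hs hsR q hq
      have h := hs ⟨q, S.PH (S.QP hq)⟩
      rw [hKHdef, Subgroup.mem_subgroupOf] at h
      simp only [Subgroup.coe_mul, Subgroup.coe_inv] at h
      have h2 : q * (s : G) * q⁻¹ * (s : G)⁻¹ ∈ K :=
        K.mul_mem h (K.inv_mem ⟨1, M.one_mem, s, hsR, (one_mul _).symm⟩)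
      obtain ⟨m', hm', r', hr', e'⟩ := h2
      have hQmem : q * (s : G) * q⁻¹ * (s : G)⁻¹ ∈ S.Q := by
        rw [show q * (s : G) * q⁻¹ * (s : G)⁻¹ = q * ((s : G) * q⁻¹ * (s : G)⁻¹) by group]
        exact S.Q.mul_mem hq (cj_mem_of (S.QH _ s.2) (S.Q.inv_mem hq))
      have : r' = 1 := hRQ r' hr' (by
        have : r' = m'⁻¹ * (q * (s : G) * q⁻¹ * (s : G)⁻¹) := by rw [e']; group
        rw [this]; exact S.Q.mul_mem (S.Q.inv_mem (hMQ hm')) hQmem)
      rw [e', this, mul_one]; exact hm'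
    have zfix : ∀ j : ℤ, (∀ q ∈ S.Q, q * z ^ j * q⁻¹ * (z ^ j)⁻¹ ∈ M) → (3 : ℤ) ∣ j := by
      intro j hj
      refine hzj3 j ((hmemC _).2 fun q hq => ?_)
      have hd := hj q hq
      refine odd_shift (Odd.of_dvd_nat hzodd ?_) (m := q * (z ^ j * q * (z ^ j)⁻¹)) ?_ ?_ ?_
      · exact (Subgroup.orderOf_dvd_natCard _ (Subgroup.zpow_mem_zpowers z j)).trans
          (dvd_of_eq (Nat.card_zpowers z))
      · rw [← mul_assoc, hQe q hq, one_mul]
      · have e : q * z ^ j * q⁻¹ * (z ^ j)⁻¹ = q * (z ^ j * q * (z ^ j)⁻¹) := by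
          rw [hQe.inv hq]; group
        rw [e] at hd
        rw [hMH _ (hzjH j) _ hd]; group
      · exact hQe _ (S.Q.mul_mem hq (hQz j q hq))
    rcases hr with ⟨j, rfl | rfl⟩
    · obtain ⟨k, rfl⟩ := zfix j (key _ hrcore ⟨j, Or.inl rfl⟩)
      exact ⟨m, hm, k, by rw [he, zpow_mul]; norm_cast⟩
    · exfalso
      have h1 : (⟨z, hzH⟩ : ↥S.H) * ⟨z ^ j * t, hRH ⟨j, Or.inr rfl⟩⟩ * (⟨z, hzH⟩ : ↥S.H)⁻¹ *
          (⟨z ^ j * t, hRH ⟨j, Or.inr rfl⟩⟩ : ↥S.H)⁻¹ ∈ KH.normalCore :=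
        Subgroup.mul_mem _ ((Subgroup.normalCore_normal KH).conj_mem _ hrcore _) (Subgroup.inv_mem _ hrcore)
      have ht1 : t * z⁻¹ * t⁻¹ = z := by
        rw [← inv_inj, show (t * z⁻¹ * t⁻¹)⁻¹ = t * z * t⁻¹ by group, htz]
      have e : ((⟨z, hzH⟩ : ↥S.H) * ⟨z ^ j * t, hRH ⟨j, Or.inr rfl⟩⟩ * (⟨z, hzH⟩ : ↥S.H)⁻¹ *
          (⟨z ^ j * t, hRH ⟨j, Or.inr rfl⟩⟩ : ↥S.H)⁻¹ : ↥S.H) = ⟨z ^ (2 : ℤ), hzjH 2⟩ := by
        ext
        simp only [Subgroup.coe_mul, Subgroup.coe_inv]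
        calc z * (z ^ j * t) * z⁻¹ * (z ^ j * t)⁻¹ = z * z ^ j * (t * z⁻¹ * t⁻¹) * (z ^ j)⁻¹ := by group
          _ = z ^ (2 : ℤ) := by rw [ht1]; group
      rw [e] at h1
      have := zfix 2 (key _ h1 ⟨2, Or.inl rfl⟩)
      omega
  have hOcore : ∀ g : ↥S.H, g ∈ O → g ∈ KH.normalCore ∧ g ∈ LH := by
    intro g hg
    obtain ⟨k, hk⟩ := Subgroup.mem_zpowers_iff.1 (Subgroup.mem_subgroupOf.1 hg)
    have hR3 : ∀ k : ℤ, (z ^ 3) ^ k ∈ R := fun k => ⟨3 * k, Or.inl (by rw [zpow_mul]; norm_cast)⟩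
    refine ⟨fun b => ?_, ?_⟩
    · rw [hKHdef, Subgroup.mem_subgroupOf]
      obtain ⟨k', hk'⟩ := Subgroup.mem_zpowers_iff.1 (cj_mem_of (hOnorm b b.2) (Subgroup.mem_subgroupOf.1 hg))
      simp only [Subgroup.coe_mul, Subgroup.coe_inv]
      rw [← hk']
      exact ⟨1, M.one_mem, _, hR3 k', (one_mul _).symm⟩
    · rw [hLHdef, Subgroup.mem_subgroupOf, ← hk]
      exact ⟨1, V.one_mem, _, hR3 k, (one_mul _).symm⟩
  have hquot : Nat.card (↥S.H ⧸ O) = Nat.card M * 24 := by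
    have h := O.card_eq_card_quotient_mul_card_subgroup
    rw [hHc, hQM, hRc, ← hOc] at h
    have hpos : 0 < Nat.card O := Nat.card_pos
    refine Nat.eq_of_mul_eq_mul_right hpos (h.symm.trans ?_)
    ring
  have hP : Nat.card S.P = 8 * Nat.card M := by rw [S.card2, hQM]; ring
  rcases (show Nat.card M = 1 ∨ Nat.card M = 2 by omega) with hM1 | hM1
  · left
    refine ⟨by rw [hP, hM1], ?_⟩
    have hker : ψ.ker = O := by
      rw [hψ]
      refine le_antisymm (fun g hg => ?_) (fun g hg => (hOcore g hg).1)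
      obtain ⟨m, hm, k, he⟩ := hcoreK g hg
      rw [Subgroup.eq_bot_of_card_eq M hM1, Subgroup.mem_bot] at hm
      rw [hO, Subgroup.mem_subgroupOf, he, hm, one_mul]
      exact Subgroup.zpow_mem_zpowers _ k
    obtain ⟨e⟩ := lift_equiv O ψ hker (by rw [hquot, hM1, Nat.card_perm]; simp [Nat.factorial])
    exact ⟨(QuotientGroup.quotientMulEquivOfEq hcore).trans e⟩
  · right
    refine ⟨by rw [hP, hM1], ?_⟩
    haveI : Fact (Nat.Prime 2) := ⟨Nat.prime_two⟩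
    have h2 : Nat.card (↥S.H ⧸ LH) = 2 := hLi.trans hM1
    let μ : ↥S.H →* Multiplicative (ZMod 2) :=
      (mulEquivOfPrimeCardEq h2 (by simp)).toMonoidHom.comp (QuotientGroup.mk' LH)
    have hμ : ∀ g, μ g = 1 ↔ g ∈ LH := fun g => by
      simp [μ]
    have hker : (ψ.prod μ).ker = O := by
      rw [MonoidHom.ker_prod, hψ]
      refine le_antisymm (fun g hg => ?_) (fun g hg => ⟨(hOcore g hg).1, (hμ g).2 (hOcore g hg).2⟩)
      obtain ⟨m, hm, k, he⟩ := hcoreK g hg.1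
      have hgL : (g : G) ∈ L := (hμ g).1 hg.2
      obtain ⟨v, hv, r, hr, he'⟩ := hgL
      have hzr : (z ^ 3) ^ k ∈ R := ⟨3 * k, Or.inl (by rw [zpow_mul]; norm_cast)⟩
      have hr1 : r * ((z ^ 3) ^ k)⁻¹ = 1 := by
        refine hRQ _ (R.mul_mem hr (R.inv_mem hzr)) ?_
        have : r * ((z ^ 3) ^ k)⁻¹ = v⁻¹ * m := by
          calc r * ((z ^ 3) ^ k)⁻¹ = v⁻¹ * (v * r) * ((z ^ 3) ^ k)⁻¹ := by group
            _ = v⁻¹ * m := by rw [← he', he]; group
        rw [this]; exact S.Q.mul_mem (S.Q.inv_mem (hVQ hv)) (hMQ hm)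
      rw [mul_inv_eq_one] at hr1
      have hvm : v = m := mul_right_cancel (b := (z ^ 3) ^ k) (by rw [← he, he', hr1])
      rw [hO, Subgroup.mem_subgroupOf, he, ← hvm, hVM v hv (hvm ▸ hm), one_mul]
      exact Subgroup.zpow_mem_zpowers _ k
    obtain ⟨e⟩ := lift_equiv O (ψ.prod μ) hker (by
      rw [hquot, hM1, Nat.card_prod, Nat.card_perm]; simp [Nat.factorial])
    exact ⟨(QuotientGroup.quotientMulEquivOfEq hcore).trans e⟩

end Cfsg.Agent.DihPush
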